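/-
Turull's bound on the Fitting height, part 1: equivariant families of subspaces.
-/
import Cfsg.Agent.Fgs.TowerD
import Cfsg.Agent.HHS.Basic
import Cfsg.Agent.Odd.PF9a1

set_option autoImplicit false
set_option linter.all false

namespace CL.Tur

open Module Subgroup Cfsg CL.Grp CL.Even CL.HHS CL.Fgs.HH MulAction
open scoped commutatorElement

variable {F : Type*} [Field F] {V : Type*} [AddCommGroup V] [Module F V] {Γ : Type*} [Group Γ] [Finite Γ]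

/-- the sum over a subgroup -/
noncomputable def pi (ρ : Γ →* End F V) (R : Subgroup Γ) : End F V :=
  haveI := Fintype.ofFinite R
  ∑ c : R, ρ c

variable {ρ : Γ →* End F V} {R L : Subgroup Γ}

theorem pi_apply [Fintype R] (v : V) : pi ρ R v = ∑ c : R, ρ c v := by
  rw [pi, LinearMap.sum_apply]
  exact Finset.sum_congr (by congr; exact Subsingleton.elim _ _) fun _ _ => rfl

theorem pi_rho {c : Γ} (hc : c ∈ R) (v : V) : pi ρ R (ρ c v) = pi ρ R v := by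
  haveI := Fintype.ofFinite R
  rw [pi_apply, pi_apply]
  exact Fintype.sum_equiv (Equiv.mulRight (⟨c, hc⟩ : R)) _ _ fun d => (rho_mul_apply ρ _ _ v).symm

theorem rho_pi {c : Γ} (hc : c ∈ R) (v : V) : ρ c (pi ρ R v) = pi ρ R v := by
  haveI := Fintype.ofFinite R
  rw [pi_apply, map_sum]
  exact Fintype.sum_equiv (Equiv.mulLeft (⟨c, hc⟩ : R)) _ _ fun d => (rho_mul_apply ρ _ _ v).symm

theorem rho_pi_comm {g : Γ} (hg : g ∈ 𝒞(R)) (v : V) : ρ g (pi ρ R v) = pi ρ R (ρ g v) := by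
  haveI := Fintype.ofFinite R
  rw [pi_apply, pi_apply, map_sum]
  exact Finset.sum_congr rfl fun c _ => by rw [← rho_mul_apply, ← hg c c.2, rho_mul_apply]

theorem pi_fixed {v : V} (h : ∀ c ∈ R, ρ c v = v) : pi ρ R v = (Nat.card R : F) • v := by
  haveI := Fintype.ofFinite R
  rw [pi_apply, Finset.sum_congr rfl fun (c : R) _ => h c c.2, Finset.sum_const, Finset.card_univ,
    Nat.card_eq_fintype_card, Nat.cast_smul_eq_nsmul]

theorem pi_mem {D : Submodule F V} {v : V} (h : ∀ c ∈ R, ρ c v ∈ D) : pi ρ R v ∈ D := by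
  haveI := Fintype.ofFinite R
  rw [pi_apply]
  exact D.sum_mem fun c _ => h c c.2

theorem pi_pi [Fintype R] {x : V} (hx : ∀ c ∈ R, ρ c x = x) (y z : Γ) :
    pi ρ R (ρ y (pi ρ R (ρ z x))) = ∑ c : R, pi ρ R (ρ (y * (c * z * (c : Γ)⁻¹)) x) := by
  rw [pi_apply (ρ z x), map_sum, map_sum]
  exact Finset.sum_congr rfl fun c _ => by
    rw [rho_mul_apply, rho_mul_apply, rho_mul_apply, hx _ (R.inv_mem c.2)]

omit [Finite Γ] in
theorem le_of_mem_prime (h : (Nat.card R).Prime) {c : Γ} (hc : c ∈ R) (h1 : c ≠ 1) {T : Subgroup Γ} (hT : c ∈ T) :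
    R ≤ T := by
  haveI := Fact.mk h
  intro d hd
  have := (mem_zpowers_iff.1 (mem_zpowers_of_prime_card (G := R) rfl (g := ⟨c, hc⟩) (g' := ⟨d, hd⟩)
    fun e => h1 (congrArg Subtype.val e)))
  obtain ⟨k, hk⟩ := this
  have e : c ^ k = d := by simpa using congrArg Subtype.val hk
  exact e ▸ T.zpow_mem hT k

theorem mem_of_comm_mem (h : PA R L) {M : Subgroup Γ} (hM : M ≤ L) (h2 : L ⊓ 𝒞(R) ≤ M) (hR : R ≤ 𝒩(M)) {y c : Γ}
    (hy : y ∈ L) (hc : c ∈ R) (h1 : c ≠ 1) (e : y⁻¹ * (c * y * c⁻¹) ∈ M) : y ∈ M := by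
  let T : Subgroup Γ :=
    { carrier := {a | a ∈ 𝒩(M) ∧ y⁻¹ * (a * y * a⁻¹) ∈ M}
      one_mem' := ⟨one_mem _, by simp⟩
      mul_mem' := fun {a b} ha hb => ⟨mul_mem ha.1 hb.1, by
        have := M.mul_mem ha.2 (conj_mem ha.1 hb.2)
        rwa [show y⁻¹ * (a * y * a⁻¹) * (a * (y⁻¹ * (b * y * b⁻¹)) * a⁻¹) = y⁻¹ * (a * b * y * (a * b)⁻¹) by group]
          at this⟩
      inv_mem' := fun {a} ha => ⟨inv_mem ha.1, by
        have := M.inv_mem (conj_mem' ha.1 ha.2)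
        rwa [show (a⁻¹ * (y⁻¹ * (a * y * a⁻¹)) * a)⁻¹ = y⁻¹ * (a⁻¹ * y * a⁻¹⁻¹) by group] at this⟩ }
  obtain ⟨d, hd, e1⟩ := exists_centralizer_mem_leftCoset h.norm h.cop h.solv hM hR hy fun a ha =>
    (le_of_mem_prime h.prime hc h1 (T := T) ⟨hR hc, e⟩ ha).2
  have := M.mul_mem (h2 hd) (M.inv_mem e1)
  rwa [mul_inv_rev, inv_inv, mul_inv_cancel_left] at this

theorem trick (h : PA R L) (hr : (Nat.card R : F) ≠ 0) {M : Subgroup Γ} (hM : M ≤ L) (h2 : L ⊓ 𝒞(R) ≤ M)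
    (hR : R ≤ 𝒩(M)) {D : Submodule F V} {x : V} (hx : ∀ c ∈ R, ρ c x = x)
    (h1 : ∀ z ∈ L, z ∉ M → pi ρ R (ρ z x) ∈ D) {y : Γ} (hy : y ∈ L) (hyM : y ∉ M)
    (h3 : pi ρ R (ρ y⁻¹ (pi ρ R (ρ y x))) ∈ D) : x ∈ D := by
  classical
  haveI := Fintype.ofFinite R
  rw [pi_pi hx, ← Finset.add_sum_erase _ _ (Finset.mem_univ 1)] at h3
  have h4 := D.sub_mem h3 (D.sum_mem (t := Finset.univ.erase 1) fun (c : R) hc => h1 _
    (L.mul_mem (L.inv_mem hy) (conj_mem (h.norm c.2) hy)) fun e => hyM (mem_of_comm_mem h hM h2 hR hy c.2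
      (fun e1 => Finset.ne_of_mem_erase hc (Subtype.ext e1)) e))
  rw [add_sub_cancel_right] at h4
  simp only [OneMemClass.coe_one, one_mul, inv_one, mul_one, inv_mul_cancel, map_one, End.one_apply] at h4
  rw [pi_fixed hx] at h4
  exact (D.smul_mem_iff hr).1 h4

theorem exists_not_mem {ι : Type*} [Fintype ι] {Q : Subgroup Γ} (H : ι → Subgroup Γ) (hn : 1 < Fintype.card ι)
    (h : ∀ i, Fintype.card ι * Nat.card (H i) ≤ Nat.card Q) : ∃ y ∈ Q, ∀ i, y ∉ H i := by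
  classical
  haveI := Fintype.ofFinite Γ
  by_contra hc
  push Not at hc
  let s : Subgroup Γ → Finset Γ := fun K => (Finset.univ.filter (· ∈ K)).erase 1
  have hs : ∀ K : Subgroup Γ, (s K).card + 1 = Nat.card K := fun K => by
    rw [Finset.card_erase_add_one (by simp), Nat.card_eq_fintype_card, Fintype.card_subtype]
  have h1 : (s Q).card ≤ ∑ i, (s (H i)).card := (Finset.card_le_card fun y hy => by
    obtain ⟨i, hi⟩ := hc y (Finset.mem_filter.1 (Finset.mem_of_mem_erase hy)).2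
    exact Finset.mem_biUnion.2 ⟨i, Finset.mem_univ i, Finset.mem_erase.2 ⟨Finset.ne_of_mem_erase hy, by simpa⟩⟩).trans
    Finset.card_biUnion_le
  have h2 : ∑ i, Fintype.card ι * ((s (H i)).card + 1) ≤ ∑ _i : ι, ((s Q).card + 1) :=
    Finset.sum_le_sum fun i _ => by rw [hs, hs]; exact h i
  rw [← Finset.mul_sum, Finset.sum_add_distrib, Finset.sum_const, Finset.sum_const, Finset.card_univ, smul_eq_mul,
    smul_eq_mul] at h2
  have := Nat.le_of_mul_le_mul_left h2 (by omega)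
  omega

theorem card_le_of_lt (h : PA R L) {M : Subgroup Γ} (hM : M ≤ L) (h2 : L ⊓ 𝒞(R) ≤ M) (hR : R ≤ 𝒩(M))
    (hne : ¬ L ≤ M) : (Nat.card R + 1) * Nat.card M ≤ Nat.card L := by
  obtain ⟨m, hm⟩ := card_dvd_of_le hM
  have h1 := h.modEq
  rw [show L ⊓ 𝒞(R) = M ⊓ 𝒞(R) from le_antisymm (le_inf h2 inf_le_right) (inf_le_inf_right _ hM), hm] at h1
  have h3 : m ≡ 1 [MOD Nat.card R] := Nat.ModEq.cancel_left_of_coprime (h.of_le hM hR).cop
    (by rw [mul_one]; exact h1.trans (h.of_le hM hR).modEq.symm)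
  have h4 : m ≠ 1 := fun e => hne (eq_of_le_of_card_ge hM (by rw [hm, e, mul_one])).ge
  have h5 : m ≠ 0 := fun e => Nat.card_pos.ne' (hm.trans (by rw [e, mul_zero]))
  have := Nat.le_of_dvd (by omega) ((Nat.modEq_iff_dvd' (by omega)).1 h3.symm)
  rw [hm, mul_comm]
  exact Nat.mul_le_mul_left _ (by omega)

/-- the elements `y` with `[y⁻¹, g] ∈ M` -/
def cset {Q M : Subgroup Γ} (h : ⁅Q, Q⁆ ≤ M) (hM : M ≤ Q) {g : Γ} (hg : g ∈ 𝒩(Q)) : Subgroup Γ where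
  carrier := {y | y ∈ Q ∧ y⁻¹ * (g * y * g⁻¹) ∈ M}
  one_mem' := ⟨one_mem _, by simp⟩
  mul_mem' := fun {a b} ha hb => ⟨mul_mem ha.1 hb.1, by
    have := M.mul_mem (conj_mem' (le_norm_of_der_le h hM hb.1) ha.2) hb.2
    rwa [show b⁻¹ * (a⁻¹ * (g * a * g⁻¹)) * b * (b⁻¹ * (g * b * g⁻¹)) = (a * b)⁻¹ * (g * (a * b) * g⁻¹) by group]
      at this⟩
  inv_mem' := fun {a} ha => ⟨inv_mem ha.1, by
    have := M.inv_mem (conj_mem (le_norm_of_der_le h hM ha.1) ha.2)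
    rwa [show (a * (a⁻¹ * (g * a * g⁻¹)) * a⁻¹)⁻¹ = a⁻¹⁻¹ * (g * a⁻¹ * g⁻¹) by group] at this⟩

/-- the vectors fixed by `K` -/
abbrev fixv (ρ : Γ →* End F V) (K : Subgroup Γ) : Submodule F V := wt ρ K fun _ => 1

theorem trick2 {Q K M : Subgroup Γ} (h : PA R Q) (hr : (Nat.card R : F) ≠ 0) (hK : PA R K) (hKR : K ≤ 𝒞(R))
    (hKQ : K ≤ 𝒩(Q)) (hQK : Q ≤ ⁅Q, K⁆) (hQR : Q ≤ ⁅Q, R⁆) (h0 : Q ⊓ 𝒞(R) ≤ ⁅Q, Q⁆) (h1 : ⁅Q, Q⁆ ≤ M) (hM : M ≤ Q)
    (hR : R ≤ 𝒩(M)) (hne : ¬ Q ≤ M) {x : V} (hx : ∀ c ∈ R, ρ c x = x)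
    (H : ∀ z ∈ Q, z ∉ M → pi ρ R (ρ z x) ∈ fixv ρ K) : x ∈ fixv ρ K := by
  classical
  haveI := Fintype.ofFinite R
  obtain ⟨t, ht, ht'⟩ : ∃ t ∈ K, ∃ y ∈ Q, ⁅y, t⁆ ∉ M := by
    by_contra hc
    push Not at hc
    exact hne (hQK.trans (commutator_le.2 fun y hy t ht => hc t ht y hy))
  have hd : ⁅Q, Q⁆ ≤ cj t M := (cj_eq (le_norm_commutator hKQ hKQ ht)).ge.trans (cj_mono t h1)
  have hM' : cj t M ≤ Q := cj_le_of_le hM (hKQ ht)
  have hR' : R ≤ 𝒩(cj t M) := by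
    rw [← cj_norm, ← cj_eq (cent_le_norm R (hKR ht))]; exact cj_mono t hR
  have hg : ∀ c : R, c * t ∈ 𝒩(Q) := fun c => mul_mem (h.norm c.2) (hKQ ht)
  obtain ⟨y, hy, hy'⟩ := exists_not_mem (Q := Q) (fun i : Option R => i.elim M fun c => cset hd hM' (hg c))
    (by have := h.prime.two_le; rw [Fintype.card_option, ← Nat.card_eq_fintype_card]; omega) (by
      rw [Fintype.card_option, ← Nat.card_eq_fintype_card]
      rintro (_ | c)
      · exact card_le_of_lt h hM (h0.trans h1) hR hne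
      refine card_le_of_lt h (fun _ hx => hx.1) (fun z hz => ⟨hz.1, hd (mul_mem (inv_mem (h0 hz))
        (conj_mem (le_norm_commutator (le_refl _) (le_refl _) (hg c)) (h0 hz)))⟩) (fun a ha =>
          mem_normalizer_fintype fun z hz => ⟨conj_mem (h.norm ha) hz.1, ?_⟩) fun e => ?_
      · have e1 : a * (c * t) = c * t * a := by
          rw [← mul_assoc, mul_assoc (c : Γ), ← hKR ht a ha, ← mul_assoc]
          haveI := Fact.mk h.prime
          haveI := isCyclic_of_prime_card (α := R) rfl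
          haveI : IsMulCommutative R := IsCyclic.commutative
          exact congrArg (· * t) (congrArg Subtype.val (mul_comm' (⟨a, ha⟩ : R) c))
        have := conj_mem (hR' ha) hz.2
        rwa [show a * (z⁻¹ * (c * t * z * (c * t)⁻¹)) * a⁻¹ = (a * z * a⁻¹)⁻¹ * (a * (c * t) * z * (a * (c * t))⁻¹)
          by group, e1, show c * t * a * z * (c * t * a)⁻¹ = c * t * (a * z * a⁻¹) * (c * t)⁻¹ by group] at this
      by_cases hc : (c : Γ) = 1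
      · obtain ⟨y, hy, hy'⟩ := ht'
        have := mem_cj.1 (e (conj_mem (hKQ ht) (inv_mem hy))).2
        rw [hc, one_mul] at this
        exact hy' (by convert this using 1; rw [commutatorElement_def]; group)
      · have h3 : ∀ v ∈ Q, ⁅v, c * t⁆ ∈ cj t M := fun v hv => by
          convert (e (inv_mem hv)).2 using 1; rw [commutatorElement_def]; group
        have h4 : c * t ∈ CL.Even.cmod Q (cj t M) := ⟨mem_normalizer_fintype fun m hm => by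
          have := mul_mem (inv_mem (h3 m (hM' hm))) hm
          rwa [show ⁅m, c * t⁆⁻¹ * m = c * t * m * (c * t)⁻¹ by rw [commutatorElement_def]; group] at this, h3⟩
        have h5 := pow_mem h4 (Nat.card K)
        rw [Commute.mul_pow (hKR ht c c.2), show t ^ Nat.card K = 1 from
          congrArg Subtype.val (pow_card_eq_one' (x := (⟨t, ht⟩ : K))), mul_one] at h5
        have h6 := commutator_le_of_le_cmod (le_of_mem_prime h.prime c.2 hc (mem_of_pow_mem_of_coprime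
          (hK.cop.coprime_dvd_left (Subgroup.orderOf_dvd_natCard _ c.2)) h5))
        exact hne (cj_le_cj.1 ((cj_eq (hKQ ht)).le.trans (hQR.trans h6))))
  refine trick h hr hM (h0.trans h1) hR hx H hy (hy' none) ?_
  have hx1 : ∀ c ∈ R, ρ c (ρ t x) = ρ t x := fun c hc => by
    rw [← rho_mul_apply, hKR ht c hc, rho_mul_apply, hx c hc]
  have e : pi ρ R (ρ y x) = pi ρ R (ρ (t * y * t⁻¹) (ρ t x)) := by
    rw [← rho_mul_apply, inv_mul_cancel_right, rho_mul_apply, ← rho_pi_comm (hKR ht), H y hy (hy' none) t ht, one_smul]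
  rw [e, pi_pi hx1]
  refine Submodule.sum_mem _ fun c _ => ?_
  have hz : y⁻¹ * (c * t * y * (c * t)⁻¹) ∈ Q := mul_mem (inv_mem hy) (conj_mem (hg c) hy)
  have h3 := H _ (conj_mem' (hKQ ht) hz) fun e => hy' (some c) ⟨hy, mem_cj.2 e⟩
  rw [← rho_mul_apply, show y⁻¹ * (c * (t * y * t⁻¹) * (c : Γ)⁻¹) * t =
    t * (t⁻¹ * (y⁻¹ * (c * t * y * (c * t)⁻¹)) * t) by group, rho_mul_apply, ← rho_pi_comm (hKR ht), h3 t ht, one_smul]
  exact h3

variable {Ω : Type*} [MulAction Γ Ω]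

omit [Finite Γ] in
theorem fx_smul {ω : Ω} (h : R ≤ stabilizer Γ ω) {c : Γ} (hc : c ∈ 𝒞(R)) : R ≤ stabilizer Γ (c • ω) := fun a ha => by
  rw [mem_stabilizer_iff, ← mul_smul, hc a ha, mul_smul, mem_stabilizer_iff.1 (h ha)]

theorem exists_cent_stab (h : PA R L) {ω : Ω} (hω : R ≤ stabilizer Γ ω) {y : Γ} (hy : y ∈ L)
    (hf : R ≤ stabilizer Γ (y • ω)) : ∃ c ∈ L ⊓ 𝒞(R), ∃ s ∈ L ⊓ stabilizer Γ ω, y = c * s := by
  obtain ⟨c, hc, e⟩ := glauberman_exists_centralizer h.norm h.cop h.solv ω hω hy hf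
  exact ⟨c, hc, c⁻¹ * y, ⟨L.mul_mem (L.inv_mem hc.1) hy, mem_stabilizer_iff.2 (by
    rw [mul_smul, ← e, inv_smul_smul])⟩, by group⟩

/-- the elements of `L` carrying `ω` to a fixed point, if this is a subgroup -/
abbrev fm (R L : Subgroup Γ) (ω : Ω) : Subgroup Γ := (L ⊓ 𝒞(R)) ⊔ (⁅L, L⁆ ⊔ (L ⊓ stabilizer Γ ω))

omit [Finite Γ] in
theorem fm_le (ω : Ω) : fm R L ω ≤ L :=
  sup_le inf_le_left (sup_le (commutator_le_of_le_norm le_normalizer) inf_le_left)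

omit [Finite Γ] in
theorem le_norm_fm (h : PA R L) {ω : Ω} (hω : R ≤ stabilizer Γ ω) : R ≤ 𝒩(fm R L ω) :=
  le_norm_sup (le_norm_inf h.norm (le_norm_cent le_normalizer))
    (le_norm_sup (le_norm_commutator h.norm h.norm) (le_norm_inf h.norm (le_norm_of_le hω)))

theorem mem_fm (h : PA R L) {ω : Ω} (hω : R ≤ stabilizer Γ ω) {y : Γ} (hy : y ∈ L) (hf : R ≤ stabilizer Γ (y • ω)) :
    y ∈ fm R L ω := by
  obtain ⟨c, hc, s, hs, rfl⟩ := exists_cent_stab h hω hy hf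
  exact mul_mem (mem_sup_left hc) (mem_sup_right (mem_sup_right hs))

theorem exists_of_mem_fm {ω : Ω} {y : Γ} (hy : y ∈ fm R L ω) :
    ∃ c ∈ L ⊓ 𝒞(R), ∃ l ∈ ⁅L, L⁆, ∃ s ∈ L ⊓ stabilizer Γ ω, y = c * (l * s) := by
  obtain ⟨c, hc, _, hm, rfl⟩ := (mem_sup_nr (inf_le_left.trans (le_norm_of_der_le le_sup_left
    (sup_le (commutator_le_of_le_norm le_normalizer) inf_le_left)))).1 hy
  obtain ⟨l, hl, s, hs, rfl⟩ := (mem_sup_nl (inf_le_left.trans (left_norm L L))).1 hm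
  exact ⟨c, hc, l, hl, s, hs, rfl⟩

theorem fx_of_mem_fm {ω : Ω} (hl : ∀ l ∈ ⁅L, L⁆, R ≤ stabilizer Γ (l • ω)) {y : Γ} (hy : y ∈ fm R L ω) :
    R ≤ stabilizer Γ (y • ω) := by
  obtain ⟨c, hc, l, hl', s, hs, rfl⟩ := exists_of_mem_fm hy
  rw [mul_smul, mul_smul, mem_stabilizer_iff.1 hs.2]
  exact fx_smul (hl l hl') hc.2

variable {U : Ω → Submodule F V} (hU : ∀ g ω u, u ∈ U ω → ρ g u ∈ U (g • ω))
include hU

theorem lemH0 (hr : (Nat.card R : F) ≠ 0) {D : Submodule F V} (hDR : ∀ c ∈ R, ∀ d ∈ D, ρ c d ∈ D) {ω : Ω}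
    (hω : R ≤ stabilizer Γ ω) (n : ℕ) : ∀ L : Subgroup Γ, Nat.card L < n → PA R L → Group.IsSolvable L →
    (∀ g ∈ L, ∀ d ∈ D, ρ g d ∈ D) → (∃ y ∈ L, ¬ R ≤ stabilizer Γ (y • ω)) →
    (∀ y ∈ L, ¬ R ≤ stabilizer Γ (y • ω) → ∀ u ∈ U ω, pi ρ R (ρ y u) ∈ D) → ∀ u ∈ U ω, pi ρ R u ∈ D := by
  induction n with
  | zero => exact fun _ h => absurd h (Nat.not_lt_zero _)
  | succ n ih =>
    rintro L hn h hs hD ⟨y, hy, hy'⟩ H u hu
    have hle : ⁅L, L⁆ ≤ L := commutator_le_of_le_norm le_normalizer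
    by_cases hl : ∀ l ∈ ⁅L, L⁆, R ≤ stabilizer Γ (l • ω)
    · have hx : pi ρ R u ∈ U ω := pi_mem fun c hc => mem_stabilizer_iff.1 (hω hc) ▸ hU c ω u hu
      have h1 : ∀ z ∈ L, z ∉ fm R L ω → pi ρ R (ρ z (pi ρ R u)) ∈ D := fun z hz hz' =>
        H z hz (fun e => hz' (mem_fm h hω hz e)) _ hx
      have h2 : y ∉ fm R L ω := fun e => hy' (fx_of_mem_fm hl e)
      exact trick h hr (fm_le ω) le_sup_left (le_norm_fm h hω) (fun c hc => rho_pi hc u) h1 hy h2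
        (pi_mem fun c hc => hDR c hc _ (hD _ (L.inv_mem hy) _ (h1 y hy h2)))
    · push Not at hl
      have hne : L ≠ ⊥ := by
        rintro rfl
        rw [mem_bot.1 hy, one_smul] at hy'
        exact hy' hω
      exact ih _ ((card_lt_card_of_lt (CL.Odd.der_lt_of_solvable hs hne)).trans_le (Nat.lt_succ_iff.1 hn))
        (h.of_le hle (le_norm_commutator h.norm h.norm)) (CL.Odd.sol_of_le hs hle) (fun g hg => hD g (hle hg)) hl
        (fun z hz => H z (hle hz)) u hu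

/-- If the traces of the family at the points not fixed by `R` lie in `D`, then so do all traces along an orbit. -/
theorem lemH (h : PA R L) (hs : Group.IsSolvable L) (hr : (Nat.card R : F) ≠ 0) {D : Submodule F V}
    (hDR : ∀ c ∈ R, ∀ d ∈ D, ρ c d ∈ D) (hD : ∀ g ∈ L, ∀ d ∈ D, ρ g d ∈ D)
    (H : ∀ ω, ¬ R ≤ stabilizer Γ ω → ∀ u ∈ U ω, pi ρ R u ∈ D) {ω : Ω} (hω : ¬ R ≤ stabilizer Γ ω) {y : Γ} (hy : y ∈ L)
    {u : V} (hu : u ∈ U ω) : pi ρ R (ρ y u) ∈ D := by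
  by_cases hf : R ≤ stabilizer Γ (y • ω)
  · exact lemH0 hU hr hDR hf _ L (Nat.lt_succ_self _) h hs hD ⟨y⁻¹, L.inv_mem hy, by rwa [inv_smul_smul]⟩
      (fun z _ hz v hv => H _ hz _ (hU z _ v hv)) _ (hU y ω u hu)
  · exact H _ hf _ (hU y ω u hu)

theorem lemH2 {Q K : Subgroup Γ} (h : PA R Q) (hr : (Nat.card R : F) ≠ 0) (hK : PA R K) (hKR : K ≤ 𝒞(R))
    (hKQ : K ≤ 𝒩(Q)) (hQK : Q ≤ ⁅Q, K⁆) (hQR : Q ≤ ⁅Q, R⁆) (h0 : Q ⊓ 𝒞(R) ≤ ⁅Q, Q⁆) (hn : Group.IsNilpotent Q)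
    (H : ∀ ω, ¬ R ≤ stabilizer Γ ω → ∀ u ∈ U ω, pi ρ R u ∈ fixv ρ K) {ω : Ω} (hω : ¬ R ≤ stabilizer Γ ω) {y : Γ}
    (hy : y ∈ Q) {u : V} (hu : u ∈ U ω) : pi ρ R (ρ y u) ∈ fixv ρ K := by
  by_cases hf : R ≤ stabilizer Γ (y • ω)
  swap
  · exact H _ hf _ (hU y ω u hu)
  have hlt : Q ⊓ stabilizer Γ (y • ω) < Q := lt_of_le_of_ne inf_le_left fun e => hω (by
    rwa [← inv_smul_smul y ω, mem_stabilizer_iff.1 (e.ge (inv_mem hy)).2])
  refine trick2 h hr hK hKR hKQ hQK hQR h0 le_sup_right (CL.Odd.sup_der_lt_of_nil hn hlt).le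
    (le_norm_sup (le_norm_inf h.norm (le_norm_of_le hf)) (le_norm_commutator h.norm h.norm))
    (CL.Odd.sup_der_lt_of_nil hn hlt).2 (fun c hc => rho_pi hc _) fun z hz hz' => H (z • y • ω) (fun e => hz' ?_) _
      (hU z _ _ (pi_mem fun c hc => mem_stabilizer_iff.1 (hf hc) ▸ hU c _ _ (hU y ω u hu)))
  obtain ⟨c, hc, s, hs, rfl⟩ := exists_cent_stab h hf hz e
  exact mul_mem (mem_sup_right (h0 hc)) (mem_sup_left hs)

end CL.Tur
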