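/-
Turull's bound on the Fitting height, part 2: the Hall–Higman count.
-/
import Cfsg.Agent.Tur.Fam
import Cfsg.Agent.Even.FStarAct

set_option autoImplicit false
set_option linter.all false

namespace CL.Tur

open Module Subgroup Cfsg CL.Grp CL.Even CL.HHS CL.Fgs.HH Polynomial
open scoped commutatorElement

variable {F : Type*} [Field F] {V : Type*} [AddCommGroup V] [Module F V] {Γ : Type*} [Group Γ] [Finite Γ]
  {ρ : Γ →* End F V} {R Q A T : Subgroup Γ} {μ : Γ → F}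

/-- the stabilizer of a subspace -/
def stabv (ρ : Γ →* End F V) (U : Submodule F V) : Subgroup Γ where
  carrier := {g | ∀ w ∈ U, ρ g w ∈ U}
  one_mem' := fun w hw => by simpa using hw
  mul_mem' := fun {a b} ha hb w hw => by rw [rho_mul_apply]; exact ha _ (hb w hw)
  inv_mem' := fun {a} ha => by
    have e : a⁻¹ = a ^ (orderOf a - 1) := by
      rw [eq_comm, ← mul_eq_one_iff_eq_inv, ← pow_succ, Nat.sub_add_cancel (orderOf_pos a), pow_orderOf_eq_one]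
    rw [e]
    induction orderOf a - 1 with
    | zero => exact fun w hw => by simpa using hw
    | succ n ih => exact fun w hw => by rw [pow_succ, rho_mul_apply]; exact ih _ (ha w hw)

theorem min_count [IsAlgClosed F] [FiniteDimensional F V] (h : CW ρ Q A μ) (hchar : (Nat.card Q : F) ≠ 0) {u : Γ}
    (huQ : u ∈ 𝒩(Q)) (hu : u ∈ 𝒩(A)) (hcop : (orderOf u).Coprime (Nat.card Q)) {U : Submodule F V}
    (h1 : U ≤ wt ρ A μ) (h2 : U ≠ ⊥) (hUQ : Q ≤ stabv ρ U) (hUu : u ∈ stabv ρ U)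
    (h4 : ∀ U' ≤ U, Q ≤ stabv ρ U' → u ∈ stabv ρ U' → U' = ⊥ ∨ U' = U) :
    ∃ D c : ℕ, D ^ 2 = A.relIndex Q ∧ D ≤ c ∧
      (∀ f : F[X], f ≠ 0 → (∀ w ∈ U, aeval (ρ u) f w = 0) → D ^ 2 ≤ f.natDegree * c) ∧
      ∀ N : ℕ, 0 < N → (∀ t ∈ Q, ⁅u ^ N, t⁆ ∈ A) → (∀ i < N, i ≠ 0 → ∀ t ∈ Q, ⁅u ^ i, t⁆ ∈ A → t ∈ A) →
        N * c ≤ N - 1 + D ^ 2 := by
  let H := stabv ρ U
  let σ : H →* End F U := subRep ρ H U fun _ hy => hy
  have hσ : ∀ (g : H) (w : U), (σ g w : V) = ρ g w := fun g w => rfl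
  have : Nontrivial U := Submodule.nontrivial_iff_ne_bot.2 h2
  have hcQ : Nat.card (Q.subgroupOf H) = Nat.card Q := Nat.card_congr (subgroupOfEquivOfLe hUQ).toEquiv
  have hsc : ∀ a : H, (a : Γ) ∈ A → σ a = μ a • 1 := fun a ha => by
    ext w; rw [hσ, h1 w.2 a ha]; rfl
  have hnorm : ∀ K : Subgroup Γ, u ∈ normalizer (K : Set Γ) →
      (⟨u, hUu⟩ : H) ∈ normalizer (K.subgroupOf H : Set H) := fun K hK =>
    mem_normalizer_iff.2 fun a => mem_normalizer_iff.1 hK a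
  obtain ⟨c1, c2⟩ := CL.Fgs.HH.core σ (Q := Q.subgroupOf H) (A := A.subgroupOf H) (u := ⟨u, hUu⟩)
    (fun a ha => h.le ha) (by rwa [hcQ]) (fun a ha => ⟨_, hsc a ha⟩) (fun a ha b hb => h.comm_mem ha hb)
    (fun t ht hn => by
      obtain ⟨a, ha, hne⟩ : ∃ a ∈ Q, μ ⁅a, (t : Γ)⁆ ≠ 1 := by simpa [h.rad t ht] using (show (t : Γ) ∉ A from hn)
      refine ⟨⟨a, hUQ ha⟩, ha, fun e => hne ?_⟩
      rw [hsc _ (h.comm_mem ha ht)] at e
      exact smul_one_inj (e.trans (one_smul F _).symm))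
    (hnorm Q huQ) (hnorm A hu) (by rw [hcQ, ← Subgroup.orderOf_coe]; exact hcop) (fun W hW1 hW2 => by
      rcases h4 (W.map U.subtype) (Submodule.map_subtype_le _ _) (by
        rintro g hg _ ⟨w, hw, rfl⟩
        exact ⟨_, hW1 ⟨g, hUQ hg⟩ hg w hw, rfl⟩) (by
        rintro _ ⟨w, hw, rfl⟩
        exact ⟨_, hW2 w hw, rfl⟩) with e | e
      · exact Or.inl (Submodule.map_injective_of_injective U.subtype_injective (by rw [e, Submodule.map_bot]))
      · exact Or.inr (Submodule.map_injective_of_injective U.subtype_injective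
          (by rw [e, Submodule.map_subtype_top])))
  rw [relIndex_subgroupOf hUQ] at c1
  refine ⟨finrank F U, finrank F (commSub (σ ⟨u, hUu⟩)), c1,
    finrank_le_commSub _, fun f hf h0 => sq_finrank_le _ hf ?_, fun N hN hN' hB => ?_⟩
  · ext w
    exact (aeval_intertwine U.subtype (S := σ ⟨u, hUu⟩) (T := ρ u) (fun _ => rfl) f w).trans (h0 w w.2)
  · refine (c2 N (fun i => (if i = 0 then Q else A).subgroupOf H) hN (fun t ht => hN' t ht)
      fun i hi t ht h => ?_).trans (le_of_eq ?_)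
    · split_ifs with e
      · exact ht
      · exact hB i hi e t ht h
    · rw [c1, ← mul_one (N - 1), ← sum_ite_zero N _ 1 hN]
      refine Finset.sum_congr rfl fun i _ => ?_
      split_ifs
      · exact relIndex_subgroupOf hUQ
      · exact relIndex_self _

theorem pi_eq_sum (h : (Nat.card R).Prime) {b : Γ} (hb : b ∈ R) (h1 : b ≠ 1) (v : V) :
    pi ρ R v = ∑ i ∈ Finset.range (Nat.card R), ρ (b ^ i) v := by
  haveI := Fintype.ofFinite R
  have ho : orderOf b = Nat.card R := ((Nat.dvd_prime h).1 (Subgroup.orderOf_dvd_natCard _ hb)).resolve_left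
    fun e => h1 (orderOf_eq_one_iff.1 e)
  rw [pi_apply]
  refine (Finset.sum_bij (fun i _ => (⟨b ^ i, pow_mem hb i⟩ : R)) (fun _ _ => Finset.mem_univ _)
    (fun i hi j hj e => ?_) (fun c _ => ?_) fun _ _ => rfl).symm
  · rw [Finset.mem_range, ← ho] at hi hj
    exact pow_injOn_Iio_orderOf hi hj (congrArg Subtype.val e)
  · obtain ⟨i, hi⟩ := (mem_powers_iff_mem_zpowers.2 (le_of_mem_prime h hb h1 (mem_zpowers b) c.2))
    refine ⟨i % Nat.card R, Finset.mem_range.2 (Nat.mod_lt _ h.pos), Subtype.ext ?_⟩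
    change b ^ _ = _
    rw [← ho, pow_mod_orderOf]; exact hi

theorem mem_of_mul_mem {K : Subgroup Γ} {a b : Γ} (hc : Commute a b) (h : (orderOf a).Coprime (orderOf b))
    (hm : a * b ∈ K) : a ∈ K ∧ b ∈ K := by
  have h1 := pow_mem hm (orderOf b)
  rw [hc.mul_pow, pow_orderOf_eq_one, mul_one] at h1
  have := mem_of_pow_mem_of_coprime h h1
  exact ⟨this, (K.mul_mem_cancel_left this).1 hm⟩

/-- the base configuration -/
structure Bs (ρ : Γ →* End F V) (R Q A T : Subgroup Γ) (μ : Γ → F) (W : Submodule F V) : Prop where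
  cw : CW ρ Q A μ
  ch : (Nat.card Q : F) ≠ 0
  pa : PA R Q
  rw : R ≤ wstab A μ
  fpf : ∀ t ∈ Q, (∀ c ∈ R, ⁅c, t⁆ ∈ A) → t ∈ A
  tw : T ≤ wstab A μ
  tq : T ≤ 𝒩(Q)
  tr : T ≤ 𝒞(R)
  c1 : (Nat.card T).Coprime (Nat.card Q)
  c2 : (Nat.card R).Coprime (Nat.card T)
  sol : Group.IsSolvable T
  le : W ≤ wt ρ A μ
  ne : W ≠ ⊥
  iq : Q ≤ stabv ρ W
  ir : R ≤ stabv ρ W
  it : T ≤ stabv ρ W
  fix : ∀ t ∈ T, ∀ w ∈ W, ρ t (pi ρ R w) = pi ρ R w

namespace Bs

variable {W : Submodule F V} (h : Bs ρ R Q A T μ W)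
include h

theorem main [IsAlgClosed F] [FiniteDimensional F V] {τ : Γ} (hτ : τ ∈ T) {m : ℕ} (hm : 1 < m)
    (hc : m.Coprime (Nat.card R)) (h1 : ∀ t ∈ Q, ⁅τ ^ m, t⁆ ∈ A)
    (h2 : ∀ i, ¬ m ∣ i → ∀ t ∈ Q, ⁅τ ^ i, t⁆ ∈ A → t ∈ A) (hne : ¬ Q ≤ A) :
    m = 2 ∧ A.relIndex Q = (2 * Nat.card R - 1) ^ 2 ∧ ∃ w ∈ W, pi ρ R w ≠ 0 := by
  have hr := h.pa.prime
  haveI := Finite.one_lt_card_iff_nontrivial.1 hr.one_lt
  obtain ⟨⟨a, ha⟩, h0⟩ := exists_ne (1 : R)
  have ha1 : a ≠ 1 := fun e => h0 (Subtype.ext e)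
  have ho : orderOf a = Nat.card R := ((Nat.dvd_prime hr).1 (Subgroup.orderOf_dvd_natCard _ ha)).resolve_left
    fun e => ha1 (orderOf_eq_one_iff.1 e)
  have hcm : Commute a τ := h.tr hτ a ha
  have hτo := Subgroup.orderOf_dvd_natCard _ hτ
  have hco : ∀ i j, (orderOf (a ^ i)).Coprime (orderOf (τ ^ j)) := fun i j =>
    (h.c2.coprime_dvd_left (Subgroup.orderOf_dvd_natCard _ (pow_mem ha i))).coprime_dvd_right
      (Subgroup.orderOf_dvd_natCard _ (pow_mem hτ j))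
  obtain ⟨U, u1, u2, u3, u4⟩ := exists_min_inv (insert (ρ (a * τ)) (ρ '' Q)) h.ne (by
    rintro _ (rfl | ⟨g, hg, rfl⟩)
    · exact mul_mem (h.ir ha) (h.it hτ)
    · exact h.iq hg)
  have hUu : a * τ ∈ stabv ρ U := u3 _ (Or.inl rfl)
  have hUQ : Q ≤ stabv ρ U := fun g hg => u3 _ (Or.inr ⟨g, hg, rfl⟩)
  have hUτ := (mem_of_mul_mem hcm (by simpa using hco 1 1) hUu).2
  have hk : ⁅Q, zpowers (τ ^ m)⁆ ≤ wker h.cw.ne_bot := by
    have e1 : zpowers (τ ^ m) ≤ T := zpowers_le_of_mem (pow_mem hτ m)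
    rw [← commutator_commutator_eq' (e1.trans h.tq) (h.c1.coprime_dvd_left (card_dvd_of_le e1))]
    exact commutator_le_wker _ (comm_zpowers_le (h.tw (pow_mem hτ m)).1 fun x hx => comm_swap_mem (h1 x hx))
      (e1.trans h.tw)
  obtain ⟨ε, hε⟩ := scalar_on_min u2 u3 u4 (f := ρ (τ ^ m)) (pow_mem hUτ m) (by
    rintro _ (rfl | ⟨g, hg, rfl⟩) w hw
    · rw [← rho_mul_apply, ← rho_mul_apply, ((hcm.pow_right m).mul_left (Commute.self_pow τ m)).eq]
    · have e := hk (commutator_mem_commutator hg (mem_zpowers _))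
      rw [← rho_mul_apply, show g * τ ^ m = ⁅g, τ ^ m⁆ * (τ ^ m * g) by rw [commutatorElement_def]; group,
        rho_mul_apply, rho_mul_apply, h.le (u1 (pow_mem hUτ m _ (hUQ hg w hw))) _ e.1, e.2, one_smul])
  have hε0 : ε ≠ 0 := fun e => by
    obtain ⟨w, hw, h0⟩ := Submodule.exists_mem_ne_zero_of_ne_bot u2
    exact h0 (rho_inj (by rw [hε w hw, e, zero_smul]))
  let g : F[X] := ∑ i ∈ Finset.range (Nat.card R), monomial (m * i) (ε⁻¹ ^ i)
  have hg0 : g ≠ 0 := fun e => by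
    have := congrArg (coeff · 0) e
    have hm0 : (m = 0) = False := eq_false (by omega)
    simp only [g, finsetSum_coeff, coeff_monomial, coeff_zero, mul_eq_zero, hm0, false_or,
      Finset.sum_ite_eq', Finset.mem_range, hr.pos, if_true, pow_zero] at this
    exact one_ne_zero this
  have hgd : g.natDegree ≤ m * (Nat.card R - 1) := natDegree_sum_le_of_forall_le _ _ fun i hi =>
    (natDegree_monomial_le _).trans (Nat.mul_le_mul_left _ (by have := Finset.mem_range.1 hi; omega))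
  have hg : ∀ w ∈ U, aeval (ρ (a * τ)) g w = pi ρ R w := fun w hw => by
    rw [pi_eq_sum hr (pow_mem ha m) (fun e => hr.one_lt.ne' (hc.symm.eq_one_of_dvd
      (ho ▸ orderOf_dvd_of_pow_eq_one e))), map_sum, LinearMap.sum_apply]
    refine Finset.sum_congr rfl fun i _ => ?_
    have e : ∀ j : ℕ, ρ ((τ ^ m) ^ j) w = ε ^ j • w := fun j => by
      induction j with
      | zero => simp
      | succ j ih => rw [pow_succ', rho_mul_apply, ih, map_smul, hε w hw, smul_smul, pow_succ]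
    rw [aeval_monomial, End.mul_apply, algebraMap_end_apply, ← map_pow, hcm.mul_pow, rho_mul_apply, pow_mul τ, e,
      map_smul, smul_smul, ← mul_pow, inv_mul_cancel₀ hε0, one_pow, one_smul, pow_mul]
  obtain ⟨D, c, d1, d2, d3, d4⟩ := min_count h.cw h.ch (mul_mem (h.pa.norm ha) (h.tq hτ))
    (mul_mem (h.rw ha).1 (h.tw hτ).1) ((Nat.Coprime.mul_left (ho ▸ h.pa.cop) (h.c1.coprime_dvd_left hτo)).coprime_dvd_left
      hcm.orderOf_mul_dvd_mul_orderOf) (u1.trans h.le) u2 hUQ hUu fun U' hU' e1 e2 => u4 U' hU' (by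
        rintro _ (rfl | ⟨g, hg, rfl⟩)
        · exact e2
        · exact e1 hg)
  have d5 := d4 (Nat.card R * m) (Nat.mul_pos hr.pos (by omega)) (fun t ht => by
    rw [hcm.mul_pow, pow_mul a, ← ho, pow_orderOf_eq_one, one_pow, one_mul, pow_mul']
    exact (pow_mem (show τ ^ m ∈ cstab A t from ⟨(h.tw (pow_mem hτ m)).1, h1 t ht⟩) _).2) fun i hi hi0 t ht e => by
      rw [hcm.mul_pow] at e
      obtain ⟨e1, e2⟩ := mem_of_mul_mem (K := cstab A t) (hcm.pow_pow i i) (hco i i)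
        ⟨mul_mem (h.rw (pow_mem ha i)).1 (h.tw (pow_mem hτ i)).1, e⟩
      by_cases hmi : m ∣ i
      · exact h.fpf t ht fun c hc' => (le_of_mem_prime hr (pow_mem ha i) (fun e3 => hi.not_ge (Nat.le_of_dvd (by omega)
          (hc.symm.mul_dvd_of_dvd_of_dvd (ho ▸ orderOf_dvd_of_pow_eq_one e3) hmi))) e1 hc').2
      · exact h2 i hmi t ht e2.2
  have hD : 1 < D := by
    rcases D with _ | _ | D
    · exact absurd d1.symm (by rw [zero_pow two_ne_zero]; exact index_ne_zero_of_finite)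
    · exact absurd (relIndex_eq_one.1 (by simpa using d1.symm)) hne
    · omega
  obtain ⟨r, hr'⟩ : ∃ r, Nat.card R = r + 1 := ⟨_, (Nat.succ_pred_eq_of_pos hr.pos).symm⟩
  rw [hr', Nat.add_sub_cancel] at hgd
  have hf : ((X - 1) * g).natDegree ≤ 1 + m * r := natDegree_mul_le.trans (add_le_add (by
    rw [← C_1]; exact (natDegree_X_sub_C 1).le) hgd)
  obtain ⟨e1, e2⟩ := hh_arith (d3 ((X - 1) * g) (mul_ne_zero (by rw [← C_1]; exact X_sub_C_ne_zero 1) hg0)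
    fun w hw => by
      rw [map_mul, End.mul_apply, hg w hw, map_sub, aeval_X, map_one, LinearMap.sub_apply, rho_mul_apply,
        h.fix τ hτ w (u1 hw), rho_pi ha, End.one_apply, sub_self]) d2 d5 hD (by rw [hr']; nlinarith)
  rw [hr', add_mul, one_mul, mul_comm r] at e1 e2
  obtain rfl : m = 2 := by omega
  refine ⟨rfl, by rw [← d1, e1, hr']; congr 1, ?_⟩
  by_contra hcon
  push Not at hcon
  have := (hh_arith (d3 g hg0 fun w hw => (hg w hw).trans (hcon w (u1 hw))) d2 d5 hD (by rw [hr']; omega)).2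
  rw [hr'] at this
  omega

theorem sub_le {T' : Subgroup Γ} (hT : T' ≤ T) : ⁅Q, T'⁆ ⊔ A ≤ Q :=
  sup_le (commutator_le_of_le_norm (hT.trans h.tq)) h.cw.le

theorem sub {T' T'' : Subgroup Γ} (hT : T' ≤ T) (hT' : T'' ≤ T) (hn : T'' ≤ 𝒩(⁅Q, T'⁆ ⊔ A)) :
    Bs ρ R (⁅Q, T'⁆ ⊔ A) A T'' μ W := by
  have hle := h.sub_le hT
  have hrad := h.cw.rad_sub (hT.trans h.tq) (fun t ht z hz => (h.tw (hT ht)).2 z (h.cw.der_le hz))
    (h.c1.coprime_dvd_left (card_dvd_of_le hT)) (Or.inl (CL.Odd.sol_of_le h.sol hT))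
  obtain ⟨k, hk⟩ := card_dvd_of_le hle
  exact ⟨⟨(commutator_mono hle hle).trans h.cw.der_le, le_sup_right, h.cw.ne_bot, fun t ht =>
    ⟨fun e g hg => (h.cw.rad t (hle ht)).1 e g (hle hg), fun e => by
      by_contra hc
      obtain ⟨a, ha, h1⟩ := hrad t ht hc
      exact h1 (e a ha)⟩⟩, fun h0 => h.ch (by rw [hk, Nat.cast_mul, h0, zero_mul]),
    h.pa.of_le hle (le_norm_sup (le_norm_commutator h.pa.norm ((le_centralizer_iff.1 (hT.trans h.tr)).trans
      (cent_le_norm _))) fun c hc => (h.rw hc).1), h.rw, fun t ht => h.fpf t (hle ht), hT'.trans h.tw, hn,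
    hT'.trans h.tr, (h.c1.coprime_dvd_left (card_dvd_of_le hT')).coprime_dvd_right (card_dvd_of_le hle),
    h.c2.coprime_dvd_right (card_dvd_of_le hT'), CL.Odd.sol_of_le h.sol hT', h.le, h.ne, hle.trans h.iq, h.ir,
    hT'.trans h.it, fun t ht => h.fix t (hT' ht)⟩

theorem fpf_sub {τ : Γ} (hτ : τ ∈ T) {t : Γ} (ht : t ∈ ⁅Q, zpowers τ⁆ ⊔ A) (e : ⁅τ, t⁆ ∈ A) : t ∈ A :=
  have h1 : zpowers τ ≤ T := zpowers_le_of_mem hτ
  h.cw.fpf_sub (h1.trans h.tq) (h1.trans h.tw) (h.c1.coprime_dvd_left (card_dvd_of_le h1))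
    (CL.Odd.sol_of_le h.sol h1) ht fun a ha => (zpowers_le_of_mem (H := cstab A t) ⟨(h.tw hτ).1, e⟩ ha).2

variable [IsAlgClosed F] [FiniteDimensional F V] {s : ℕ} (hs : s.Prime) (hT : IsPGroup s T)
include hs hT

theorem invol {τ : Γ} (hτ : τ ∈ T) (hne : τ ∉ CL.Even.cmod Q A) : τ ^ 2 ∈ CL.Even.cmod Q A ∧
    A.relIndex (⁅Q, zpowers τ⁆ ⊔ A) = (2 * Nat.card R - 1) ^ 2 ∧ ∃ w ∈ W, pi ρ R w ≠ 0 := by
  obtain ⟨j, hj⟩ := isPGroup_iff_forall.1 hT τ hτ
  obtain ⟨k, -, hk⟩ := exists_stab_exp (CL.Even.cmod Q A) hs (hj ▸ one_mem _)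
  rcases k with _ | k
  · exact absurd (by simpa using (hk 1).2 (by simp)) hne
  have ht : τ ^ s ^ k ∈ T := pow_mem hτ _
  have h1 : ∀ t ∈ ⁅Q, zpowers (τ ^ s ^ k)⁆ ⊔ A, ⁅τ ^ s ^ (k + 1), t⁆ ∈ A := fun t e =>
    comm_swap_mem (((hk _).2 dvd_rfl).2 t (h.sub_le (zpowers_le_of_mem ht) e))
  obtain ⟨e1, e2, e3⟩ := (h.sub (zpowers_le_of_mem ht) (zpowers_le_of_mem hτ) (le_norm_sup (le_norm_commutator
    (zpowers_le_of_mem (h.tq hτ)) (zpowers_le_of_mem (cent_le_norm _ (mem_cent_zpowers.2 (Commute.self_pow _ _)))))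
      (zpowers_le_of_mem (h.tw hτ).1))).main (mem_zpowers τ) (Nat.one_lt_pow (by omega) hs.one_lt) (by
        refine (Nat.Coprime.pow_left _ ((Nat.Prime.coprime_iff_not_dvd hs).2 fun e => hne ?_))
        haveI := Fact.mk hs
        have := eq_bot_of_isPGroup_of_coprime hT (h.c2.symm.coprime_dvd_right e)
        rw [mem_bot.1 (this.le hτ)]; exact one_mem _) h1 (fun i hi t ht' e => by
      obtain ⟨l, hl, hl'⟩ := exists_stab_exp (cstab A t) hs ⟨(h.tw (pow_mem hτ _)).1, h1 t ht'⟩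
      exact h.fpf_sub ht ht' ((hl' _).2 (pow_dvd_pow _ (Nat.lt_succ_iff.1 (lt_of_le_of_ne hl fun e1 =>
        hi (by have := (hl' i).1 ⟨(h.tw (pow_mem hτ _)).1, e⟩; rwa [e1] at this))))).2) fun e => by
      have := (hk _).1 (zpowers_le.1 (le_cmod (zpowers_le_of_mem (h.tw ht).1) (le_sup_left.trans e)))
      exact absurd (Nat.le_of_dvd (pow_pos hs.pos _) this) (Nat.pow_lt_pow_succ hs.one_lt).not_ge
  obtain rfl : k = 0 := by
    have h2 := (Nat.prime_two.pow_eq_iff.1 e1).2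
    omega
  rw [pow_zero, pow_one] at e2
  exact ⟨e1 ▸ (hk _).2 dvd_rfl, e2, e3⟩

theorem klein {t₁ t₂ : Γ} (h1 : t₁ ∈ T) (h2 : t₂ ∈ T) (n1 : t₁ ∉ CL.Even.cmod Q A) (n2 : t₂ ∉ CL.Even.cmod Q A) :
    t₁ * t₂ ∈ CL.Even.cmod Q A := by
  by_contra n3
  have hsq : ∀ t ∈ T, t ^ 2 ∈ CL.Even.cmod Q A := fun t ht => by
    by_cases e : t ∈ CL.Even.cmod Q A
    · exact pow_mem e 2
    · exact (h.invol hs hT ht e).1
  have hN : T ≤ 𝒩(CL.Even.cmod Q A) := le_norm_cmod h.tq fun t ht => (h.tw ht).1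
  have hQ : ∀ {t : Γ}, t ∈ T → CL.Even.cmod Q A ⊔ zpowers t ≤ CL.Even.cmod Q (⁅Q, zpowers t⁆ ⊔ A) := fun {t} ht => by
    have hle := h.sub_le (zpowers_le_of_mem ht)
    have : ∀ {g : Γ}, (∀ v ∈ Q, ⁅v, g⁆ ∈ ⁅Q, zpowers t⁆ ⊔ A) → g ∈ CL.Even.cmod Q (⁅Q, zpowers t⁆ ⊔ A) := fun {g} e =>
      ⟨mem_normalizer_fintype fun m hm => by
        have := mul_mem (inv_mem (e m (hle hm))) hm
        rwa [show ⁅m, g⁆⁻¹ * m = g * m * g⁻¹ by rw [commutatorElement_def]; group] at this, e⟩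
    exact sup_le (fun g hg => this fun v hv => mem_sup_right (hg.2 v hv)) (zpowers_le_of_mem (this fun v hv =>
      mem_sup_left (commutator_mem_commutator hv (mem_zpowers t))))
  -- the key symmetric step
  have key : ∀ {a b : Γ}, a ∈ T → b ∈ T → a ∉ CL.Even.cmod Q A → b ∉ CL.Even.cmod Q A →
      b ∉ CL.Even.cmod (⁅Q, zpowers a⁆ ⊔ A) A → ⁅Q, zpowers b⁆ ⊔ A = ⁅Q, zpowers a⁆ ⊔ A := fun {a b} ha hb na nb e => by
    have hle := h.sub_le (zpowers_le_of_mem ha)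
    have hn : T ≤ 𝒩(⁅Q, zpowers a⁆ ⊔ A) := fun g hg => mem_norm_of_cj_le (by
      rw [cj_sup, cj_commutator, cj_eq (h.tq hg), cj_eq (h.tw hg).1, MonoidHom.map_zpowers]
      refine sup_le (commutator_le_of_le_cmod (zpowers_le_of_mem (hQ ha ?_))) le_sup_right
      have := mul_mem (mul_mem (mem_sup_left (mul_mem (hsq _ (mul_mem hg ha)) (conj_mem' (hN ha) (inv_mem (hsq g hg)))))
        (mem_sup_right (inv_mem (mem_zpowers a)))) (one_mem (CL.Even.cmod Q A ⊔ zpowers a))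
      convert this using 1
      simp only [MulEquiv.coe_toMonoidHom, MulAut.conj_apply, sq]; group)
    have e2 := ((h.sub (zpowers_le_of_mem ha) le_rfl hn).invol hs hT hb e).2.1
    have e3 := (h.invol hs hT hb nb).2.1
    have e4 := (h.invol hs hT ha na).2.1
    have eq : ∀ {X Y : Subgroup Γ}, A ≤ X → X ≤ Y → A.relIndex X = A.relIndex Y → X = Y := fun {X Y} e5 e6 e7 => by
      have := relIndex_mul_relIndex A X Y e5 e6
      rw [← e7, mul_eq_left₀ (a := A.relIndex X) index_ne_zero_of_finite, relIndex_eq_one] at this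
      exact le_antisymm e6 this
    rw [← eq le_sup_right (sup_le_sup_right (commutator_mono hle le_rfl) A) (e2.trans e3.symm)]
    exact eq le_sup_right (sup_le (commutator_le_of_le_norm (zpowers_le_of_mem (hn hb))) le_sup_right)
      (e2.trans e4.symm)
  have inv : ∀ {a y : Γ}, a ∈ T → y ∈ ⁅Q, zpowers a⁆ ⊔ A → a * y * a⁻¹ * y ∈ A := fun {a y} ha hy => by
    have hle := h.sub_le (zpowers_le_of_mem ha)
    have hy' : a * y * a⁻¹ ∈ ⁅Q, zpowers a⁆ ⊔ A := conj_mem (hQ ha (mem_sup_right (mem_zpowers a))).1 hy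
    refine h.fpf_sub ha (mul_mem hy' hy) ?_
    have := mul_mem (comm_swap_mem ((hsq a ha).2 y (hle hy))) (h.cw.comm_mem (hle hy) (hle hy'))
    convert this using 1
    simp only [commutatorElement_def, sq]; group
  have fin : ∀ {a b : Γ}, a ∈ T → b ∈ T → a * b ∉ CL.Even.cmod Q A → ⁅Q, zpowers b⁆ ⊔ A = ⁅Q, zpowers a⁆ ⊔ A → False :=
    fun {a b} ha hb n e => by
      have hle : ⁅Q, zpowers (a * b)⁆ ⊔ A ≤ ⁅Q, zpowers a⁆ ⊔ A := sup_le (commutator_le_of_le_cmod (zpowers_le_of_mem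
        (mul_mem (hQ ha (mem_sup_right (mem_zpowers a))) (e ▸ hQ hb (mem_sup_right (mem_zpowers b)))))) le_sup_right
      refine n (zpowers_le.1 (le_cmod (zpowers_le_of_mem (h.tw (mul_mem ha hb)).1) (le_sup_left.trans
        fun y hy => h.fpf_sub (mul_mem ha hb) hy ?_)))
      have := mul_mem (conj_mem (h.tw ha).1 (inv hb (e ▸ hle hy)))
        (inv_mem (conj_mem (h.cw.le_wstab (h.sub_le (zpowers_le_of_mem ha) (hle hy))).1 (inv ha (hle hy))))
      convert this using 1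
      simp only [commutatorElement_def]; group
  by_cases e : t₂ ∈ CL.Even.cmod (⁅Q, zpowers t₁⁆ ⊔ A) A
  · have e3 : t₁ * t₂ ∉ CL.Even.cmod (⁅Q, zpowers t₁⁆ ⊔ A) A := fun e1 => n1 (zpowers_le.1 (le_cmod
      (zpowers_le_of_mem (h.tw h1).1) (le_sup_left.trans fun y hy => h.fpf_sub h1 hy
        (comm_swap_mem (((mul_mem_cancel_right e).1 e1).2 y hy)))))
    refine fin h1 (mul_mem h1 h2) (fun e1 => n2 ?_) (key h1 (mul_mem h1 h2) n1 n3 e3)
    rwa [← mul_assoc, ← sq, mul_mem_cancel_left (hsq _ h1)] at e1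
  · exact fin h1 h2 n3 (key h1 h2 n1 n2 e)

end Bs

end CL.Tur
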