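/-
Turull's bound on the Fitting height, part 3: the minimal configuration.
-/
import Cfsg.Agent.Tur.Count

set_option autoImplicit false
set_option linter.all false

namespace CL.Tur

open Module Subgroup Cfsg CL.Grp CL.Even CL.HHS CL.Fgs CL.Fgs.HH
open scoped commutatorElement

universe u

variable {Γ : Type u} [Group Γ] [Finite Γ] {p q n : ℕ} {G R P X Y : Subgroup Γ}

/-- the `p`-residual of a term of the lower nilpotent series -/
def ht (p n : ℕ) (X : Subgroup Γ) : Subgroup Γ := pResidualOf p (nres^[n] X)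

theorem ht_le_nres : ht p n X ≤ nres^[n] X := res_le _

theorem ht_le : ht p n X ≤ X := ht_le_nres.trans (nres_iter_le n X)

theorem ht_mono (h : X ≤ Y) : ht p n X ≤ ht p n Y := res_mono (nres_iter_mono n h)

theorem res_ht : pResidualOf p (ht p n X) = ht p n X := res_res _

theorem map_ht (hp : p.Prime) {Γ' : Type u} [Group Γ'] (f : Γ →* Γ') : (ht p n X).map f = ht p n (X.map f) := by
  haveI := Fact.mk hp
  rw [ht, map_res, map_nres_iter, ht]

theorem norm_ht : 𝒩(X) ≤ 𝒩(ht p n X) := (norm_le_norm_nres_iter n X).trans (norm_le_norm_res _)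

instance ht_normal [h : X.Normal] : (ht p n X).Normal :=
  normal_iff_top_le.2 ((normal_iff_top_le.1 h).trans norm_ht)

theorem ht_le_sup (hp : p.Prime) {N : Subgroup Γ} [N.Normal] (h : X ≤ Y ⊔ N) : ht p n X ≤ ht p n Y ⊔ N := by
  have e : ∀ Z : Subgroup Γ, (Z.map (QuotientGroup.mk' N)).comap (QuotientGroup.mk' N) = Z ⊔ N := fun Z => by
    rw [comap_map_eq, QuotientGroup.ker_mk']
  rw [← e, ← map_le_iff_le_comap, map_ht hp, map_ht hp]
  exact ht_mono (by rwa [map_le_iff_le_comap, e])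

theorem comm_le_nres (hp : p.Prime) (hP : IsPGroup p P) (h1 : P ≤ X) (h2 : X ≤ 𝒩(P)) :
    ⁅P, ht p n X⁆ ≤ nres^[n + 1] X := by
  haveI := Fact.mk hp
  rw [Function.iterate_succ_apply']
  exact le_nres ((commutator_le_of_le_norm' ((h1.trans le_normalizer).trans norm_ht)).trans ht_le_nres)
    ((commutator_res_res hP (ht_le.trans h2)).ge.trans (commutator_mono le_rfl ht_le_nres))

theorem le_res_of_ne (hp : p.Prime) (hq : q.Prime) (h : p ≠ q) (hP : IsPGroup p P) (h1 : P ≤ X) :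
    P ≤ pResidualOf q X :=
  haveI := Fact.mk hq
  le_res_of_coprime h1 (coprime_card_of_ne hq hp h.symm hP).symm

theorem nres_le_res (hq : q.Prime) : nres X ≤ pResidualOf q X := by
  haveI := Fact.mk hq
  have h := (nres_le_iff_map (H := (⊤ : Subgroup X)) (QuotientGroup.mk' (pResidual q X))).2
    (IsPGroup.isNilpotent (p := q) (isPGroup_of_res_eq_bot (by
      rw [← map_res, res_top, Subgroup.map_eq_bot_iff, QuotientGroup.ker_mk'])))
  rw [QuotientGroup.ker_mk'] at h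
  have := map_mono (f := X.subtype) h
  rwa [map_nres, ← MonoidHom.range_eq_map, range_subtype] at this

theorem exists_not_cent [X.Normal] (hs : Group.IsSolvable X) (h : nres X ≠ ⊥) :
    ∃ p : ℕ, p.Prime ∧ ¬ pResidualOf p X ≤ 𝒞(pCoreOf p X) := by
  by_contra hc
  push Not at hc
  exact h (nres_eq_bot_iff.2 (nil_of_pow_cent hs fun q hq _ => by
    haveI := Fact.mk hq
    exact res_le_iff.1 (hc q hq)))

theorem norm_of_normal [h : X.Normal] (Y : Subgroup Γ) : Y ≤ 𝒩(X) := le_top.trans (normal_iff_top_le.1 h)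

theorem sol_map {Γ' : Type*} [Group Γ'] (f : Γ →* Γ') (h : Group.IsSolvable X) : Group.IsSolvable (X.map f) :=
  Group.isSolvable_of_surjective (f.subgroupMap_surjective X)

/-- the minimal configuration -/
structure Cfg (p n : ℕ) (G R P : Subgroup Γ) : Prop where
  hp : p.Prime
  pa : PA R G
  nG : G.Normal
  top : G ⊔ R = ⊤
  sol : Group.IsSolvable G
  nP : P.Normal
  le : P ≤ G
  pP : IsPGroup p P
  ne : P ≠ ⊥
  cl2 : ⁅P, P⁆ ≤ 𝒞(P)
  pw : ∀ x ∈ P, x ^ p ∈ ⁅P, P⁆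
  min : ∀ U < P, U.Normal → U ≤ ⁅P, P⁆
  exT : ∃ (s : ℕ) (T : Subgroup Γ), s.Prime ∧ IsPGroup s T ∧ T ≤ ht p n G ∧ R ≤ 𝒩(T) ∧ ⁅P, T⁆ = P ∧ T ≤ 𝒞(⁅P, P⁆)
  gmin : ∀ G₀ ≤ G, R ≤ 𝒩(G₀) → P ≤ G₀ → ¬ ht p n G₀ ≤ 𝒞(P) → G₀ = G

theorem exists_cfg (pa : PA R G) [nG : G.Normal] (top : G ⊔ R = ⊤) (sol : Group.IsSolvable G)
    (h : nres^[n + 1] G ≠ ⊥) (gmin : ∀ p : ℕ, p.Prime → pCoreOf p G ≠ ⊥ → ∀ G₀ ≤ G, R ≤ 𝒩(G₀) → ∀ P ≤ G₀,
      IsPGroup p P → P ≤ nres^[n + 1] G₀ → P ≠ ⊥ → G₀ = G) : ∃ p P, Cfg p n G R P := by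
  rw [Function.iterate_succ_apply'] at h
  obtain ⟨p, hp, hB⟩ := exists_not_cent (CL.Odd.sol_of_le sol (nres_iter_le n G)) h
  haveI := Fact.mk hp
  change ¬ ht p n G ≤ _ at hB
  set O := pCoreOf p (nres^[n] G)
  have hO : O ≤ G := (core_le _).trans (nres_iter_le n G)
  have pO : IsPGroup p O := core_isP _
  obtain ⟨D, ⟨d1, d2, d3⟩, dm⟩ := (wellFounded_gt (α := Subgroup Γ)).has_min
    {D | D.Normal ∧ D ≤ ht p n G ∧ pResidualOf p D ≤ 𝒞(O)} ⟨⊥, inferInstance, bot_le, (res_le _).trans bot_le⟩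
  let f := QuotientGroup.mk' D
  have hf : Function.Surjective f := QuotientGroup.mk'_surjective D
  haveI := sol_map f (CL.Odd.sol_of_le sol (ht_le (p := p) (n := n)))
  haveI := ((ht p n G).map f).nontrivial_iff_ne_bot.2 fun e => by
    rw [Subgroup.map_eq_bot_iff, QuotientGroup.ker_mk'] at e
    exact hB (res_ht.ge.trans ((res_mono e).trans d3))
  obtain ⟨s, hs, hs'⟩ := exists_pCore_ne_bot ((ht p n G).map f)
  haveI := Fact.mk hs
  haveI : ((ht p n G).map f).Normal := Normal.map inferInstance f hf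
  let X := (pCoreOf s ((ht p n G).map f)).comap f
  have hDX : D ≤ X := (QuotientGroup.ker_mk' D).ge.trans (ker_le_comap f _)
  have hXB : X ≤ ht p n G := (comap_mono (core_le _)).trans (by
    rw [comap_map_eq, QuotientGroup.ker_mk']; exact sup_le le_rfl d2)
  have hX : ¬ pResidualOf p X ≤ 𝒞(O) := fun e => dm X ⟨inferInstance, hXB, e⟩ (lt_of_le_of_ne hDX fun e1 => by
    have := map_comap_eq_self_of_surjective hf (pCoreOf s ((ht p n G).map f))
    exact hs' (core_eq_bot_iff.1 (this.symm.trans ((Subgroup.map_eq_bot_iff X).2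
      (e1.ge.trans (QuotientGroup.ker_mk' D).ge)))))
  obtain ⟨T, t1, -, t2⟩ := (pa.of_le (hXB.trans ht_le) (norm_of_normal R)).syl (p := s) bot_le IsPGroup.of_bot
    (norm_of_normal R)
  have hXT : X ≤ T ⊔ D := (syl_sup_res t1).ge.trans (sup_le_sup_left (by
    refine le_trans ?_ (QuotientGroup.ker_mk' D).le
    rw [← Subgroup.map_eq_bot_iff, map_res, map_comap_eq_self_of_surjective hf]
    exact res_eq_bot_of_isPGroup (core_isP _)) T)
  have hsp : s ≠ p := by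
    rintro rfl
    exact hX ((res_mono hXT).trans ((res_sup_eq_of_isPGroup t1.isPGroup (norm_of_normal T)).le.trans d3))
  have hTO : ¬ T ≤ 𝒞(O) := fun e => hX ((ht_le_sup (n := 0) hp (Y := D) (N := 𝒞(O))
    (hXT.trans (sup_le (e.trans le_sup_right) le_sup_left))).trans (sup_le d3 le_rfl))
  obtain ⟨P, p1, p2, p3, p4, p5, p6, p7, p8⟩ := exists_min_sub hp pO (norm_of_normal 𝒩(T)) le_normalizer le_rfl
    (IsPGroup.coprime_card_of_ne s p hsp T O t1.isPGroup pO) hTO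
  have pP := pO.to_le p1
  have ne : P ≠ ⊥ := fun e => p3 (le_cent_comm.1 (e.le.trans bot_le))
  have hOG : pCoreOf p G ≠ ⊥ := fun e => ne (le_bot_iff.1 (p1.trans (e ▸ le_core hO pO (norm_of_normal G))))
  have key : ∀ G₀ ≤ G, R ≤ 𝒩(G₀) → P ≤ G₀ → G₀ ≤ 𝒩(P) → ¬ ht p n G₀ ≤ 𝒞(P) → G₀ = G := fun G₀ h1 h2 h3 h4 h5 =>
    gmin p hp hOG G₀ h1 h2 _ ((commutator_le_of_le_norm (ht_le.trans h4)).trans h3)
      (pP.to_le (commutator_le_of_le_norm (ht_le.trans h4))) (comm_le_nres hp pP h3 h4)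
      fun e => h5 (commutator_eq_bot_iff'.1 e)
  have hn : P ⊔ G ⊓ 𝒩(T) ≤ 𝒩(P) := sup_le le_normalizer (inf_le_right.trans p2)
  have hT : T ≤ P ⊔ G ⊓ 𝒩(T) := le_sup_of_le_right (le_inf (t1.le.trans (hXB.trans ht_le)) le_normalizer)
  have hG := key (P ⊔ G ⊓ 𝒩(T)) (sup_le (p1.trans hO) inf_le_left)
    (le_norm_sup (t2.trans p2) (le_norm_inf pa.norm (le_norm_of_le t2))) le_sup_left hn fun e => p3 fun t ht => by
      have h1 : G ≤ (P ⊔ G ⊓ 𝒩(T)) ⊔ D := (frattini_sup t1 (hXB.trans ht_le) (norm_of_normal G)).ge.trans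
        (sup_le (le_sup_of_le_left le_sup_right) (hXT.trans (sup_le_sup_right hT D)))
      obtain ⟨a, ha, d, hd, e1⟩ := (mem_sup_nr (norm_of_normal _)).1 (ht_le_sup hp h1 (hXB (t1.le ht)))
      have hdn : d ∈ 𝒩(P) := by
        rw [← inv_mul_cancel_left a d, e1]
        exact mul_mem (inv_mem (hn (ht_le ha))) (hn (hT ht))
      obtain ⟨k, hk⟩ := exists_pow_mem_res (p := p) hd
      obtain ⟨c, hc, e2⟩ := exists_mul_pow_eq (K := 𝒞(P)) (norm_le_norm_cent P hdn)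
        (conj_mem' (norm_le_norm_cent P hdn) (e ha)) (p ^ k)
      rw [show d * (d⁻¹ * a * d) = t by rw [← e1]; group] at e2
      refine mem_of_pow_mem_of_coprime (n := p ^ k) (Nat.Coprime.pow_right _ ((coprime_card_of_ne hp hs hsp.symm
        t1.isPGroup).symm.coprime_dvd_left (Subgroup.orderOf_dvd_natCard _ ht))) ?_
      rw [e2]
      exact mul_mem (cent_mono p1 (d3 hk)) hc
  have nP : P.Normal := normal_iff_top_le.2 (top ▸ sup_le (hG ▸ hn) (t2.trans p2))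
  exact ⟨p, P, hp, pa, nG, top, sol, nP, p1.trans hO, pP, ne, p8,
    ((map_subtype_frattini_le_iff pP).1 p7.le).2,
    fun U hU _ => (le_inf hU.le (p4 U hU (norm_of_normal _))).trans p6.le,
    ⟨s, T, hs, t1.isPGroup, t1.le.trans hXB, t2, p5, le_cent_comm.1 (p6.ge.trans inf_le_right)⟩,
    fun G₀ h1 h2 h3 => key G₀ h1 h2 h3 (norm_of_normal _)⟩

namespace Cfg

variable (h : Cfg p n G R P)
include h

theorem lt : ⁅P, P⁆ < P :=
  haveI := Fact.mk h.hp
  CL.Odd.der_lt_of_solvable (isSolvable_of_isPGroup h.pP) h.ne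

theorem paP : PA R P := haveI := h.nP; h.pa.of_le h.le (norm_of_normal R)

theorem nC : (CL.Even.cmod P ⁅P, P⁆).Normal :=
  haveI := h.nP
  normal_iff_top_le.2 (le_norm_cmod (norm_of_normal _) (norm_of_normal _))

theorem le_cm : P ≤ CL.Even.cmod P ⁅P, P⁆ := haveI := h.nP; le_cmod (norm_of_normal _) le_rfl

theorem cent_le : 𝒞(P) ≤ CL.Even.cmod P ⁅P, P⁆ :=
  haveI := h.nP
  le_cmod (norm_of_normal _) ((commutator_eq_bot_iff'.2 le_rfl).le.trans bot_le)

/-- a subgroup normal modulo the centralizer of the chief factor -/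
theorem comm_eq {T : Subgroup Γ} (hn : (T ⊔ CL.Even.cmod P ⁅P, P⁆).Normal) (hT : ¬ T ≤ CL.Even.cmod P ⁅P, P⁆) :
    ⁅P, T⁆ = P := by
  haveI := h.nP
  haveI := Fact.mk h.hp
  have hle : ⁅P, T⁆ ≤ P := commutator_le_of_le_norm (norm_of_normal _)
  by_contra hc
  have h1 : ⁅P, T ⊔ CL.Even.cmod P ⁅P, P⁆⁆ < P := lt_of_le_of_lt (commutator_le_of_le_cmod (sup_le
    (le_cmod (le_norm_sup (right_norm P T) (norm_of_normal _)) le_sup_left) fun g hg => ?_))
    (CL.Odd.sup_der_lt_of_nil h.pP.isNilpotent (lt_of_le_of_ne hle hc))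
  · exact hT (le_cmod (norm_of_normal _) ((commutator_mono le_rfl le_sup_left).trans (h.min _ h1 inferInstance)))
  · exact ⟨mem_normalizer_fintype fun m hm => by
      have := mul_mem (inv_mem (mem_sup_right (hg.2 m (sup_le hle h.lt.le hm)))) hm
      rwa [show ⁅m, g⁆⁻¹ * m = g * m * g⁻¹ by rw [commutatorElement_def]; group] at this,
      fun v hv => mem_sup_right (hg.2 v hv)⟩

theorem ne_of_comm {s : ℕ} {T : Subgroup Γ} (hT : IsPGroup s T) (e : ⁅P, T⁆ = P) : s ≠ p := by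
  rintro rfl
  haveI := h.nP
  haveI := Fact.mk h.hp
  exact h.ne (eq_bot_of_le_commutator h.pP hT (norm_of_normal _) e.ge)

theorem not_le : ¬ ht p n G ≤ CL.Even.cmod P ⁅P, P⁆ := fun e => by
  obtain ⟨s, T, -, -, h1, -, h2, -⟩ := h.exT
  exact h.lt.2 (h2.ge.trans (commutator_le_of_le_cmod (h1.trans e)))

theorem eq_of_le {G₀ : Subgroup Γ} (h1 : G₀ ≤ G) (h2 : R ≤ 𝒩(G₀)) (h3 : P ≤ G₀)
    (h4 : G ≤ G₀ ⊔ CL.Even.cmod P ⁅P, P⁆) : G₀ = G :=
  haveI := h.nC
  h.gmin G₀ h1 h2 h3 fun e => h.not_le ((ht_le_sup h.hp h4).trans (sup_le (e.trans h.cent_le) le_rfl))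

end Cfg

end CL.Tur
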