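/-
Turull's bound on the Fitting height, part 4: the statements of the induction, and the passage to the dual module.
-/
import Cfsg.Agent.Tur.Cfg

set_option autoImplicit false
set_option linter.all false

namespace CL.Tur

open Module Subgroup Cfsg CL.Grp CL.Even CL.HHS CL.Fgs CL.Fgs.HH MulAction
open scoped commutatorElement

universe u

section defs

variable {F : Type*} [Field F] {V : Type*} [AddCommGroup V] [Module F V] {Γ : Type u} [Group Γ] [Finite Γ]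
  {Ω : Type*} [MulAction Γ Ω]

/-- the span of the traces of a family at the points that are not fixed -/
noncomputable def tr (ρ : Γ →* End F V) (R : Subgroup Γ) (U : Ω → Submodule F V) : Submodule F V :=
  ⨆ ω, ⨆ _ : ¬ R ≤ stabilizer Γ ω, (U ω).map (pi ρ R)

variable {ρ : Γ →* End F V} {R : Subgroup Γ} {U : Ω → Submodule F V}

theorem pi_mem_tr {ω : Ω} (h : ¬ R ≤ stabilizer Γ ω) {u : V} (hu : u ∈ U ω) : pi ρ R u ∈ tr ρ R U :=
  Submodule.mem_iSup_of_mem ω (Submodule.mem_iSup_of_mem h (Submodule.mem_map_of_mem hu))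

theorem tr_le {D : Submodule F V} (h : ∀ ω, ¬ R ≤ stabilizer Γ ω → ∀ u ∈ U ω, pi ρ R u ∈ D) : tr ρ R U ≤ D :=
  iSup₂_le fun ω hω => Submodule.map_le_iff_le_comap.2 (h ω hω)

/-- the hypotheses on a module with a family of subspaces -/
structure MH (q n : ℕ) (ρ : Γ →* End F V) (G R : Subgroup Γ) (U : Ω → Submodule F V) : Prop where
  pa : PA R G
  nG : G.Normal
  top : G ⊔ R = ⊤
  sol : Group.IsSolvable G
  hq : q.Prime
  hr : (Nat.card R : F) ≠ 0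
  nofix : ∀ Z ≤ G, Z.Normal → ∀ v ∈ fixv ρ Z, v ≠ 0 → Z = ⊥
  ht : ht q (n + 1) G ≠ ⊥
  min : ∀ G₀ ≤ G, R ≤ 𝒩(G₀) → Tur.ht q (n + 1) G₀ ≠ ⊥ → G₀ = G
  cm : ⁅G, R⁆ ≠ ⊥
  hU : ∀ g ω u, u ∈ U ω → ρ g u ∈ U (g • ω)
  ne : ∃ ω, U ω ≠ ⊥
  mov : ∀ ω : Ω, ∃ g : Γ, ¬ R ≤ stabilizer Γ (g • ω)

/-- the common part of the conjugates of `J` at the cosets of `Y` that are not fixed -/
def nn (R Y J : Subgroup Γ) : Subgroup Γ := ⨅ γ : Γ, ⨅ _ : ¬ R ≤ cj γ Y, cj γ J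

omit [Finite Γ] in
theorem mem_nn {Y J : Subgroup Γ} {x : Γ} : x ∈ nn R Y J ↔ ∀ γ : Γ, ¬ R ≤ cj γ Y → γ⁻¹ * x * γ ∈ J := by
  simp only [nn, mem_iInf, mem_cj]

end defs

/-- the statement for modules -/
def MS (n : ℕ) : Prop := ∀ (Γ : Type u) [Group Γ] [Finite Γ] (F : Type) [Field F] [IsAlgClosed F] (q : ℕ) [CharP F q]
  (V : Type u) [AddCommGroup V] [Module F V] [FiniteDimensional F V] (Ω : Type u) [MulAction Γ Ω]
  (ρ : Γ →* End F V) (G R : Subgroup Γ) (U : Ω → Submodule F V), MH q n ρ G R U →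
    tr ρ R U ≠ ⊥ ∧ ∀ j, j + 1 = n → ¬ ht q j (G ⊓ 𝒞(R)) ≤ wfix ρ (tr ρ R U)

variable {Γ : Type u} [Group Γ] [Finite Γ] {F : Type*} [Field F] {p n : ℕ} {G R P J Y : Subgroup Γ}

/-- the additive characters of `P` -/
def ach (F : Type*) [Field F] (P : Subgroup Γ) : Submodule F (Γ → F) where
  carrier := {φ | (∀ a ∈ P, ∀ b ∈ P, φ (a * b) = φ a + φ b) ∧ ∀ x ∉ P, φ x = 0}
  add_mem' := fun {φ ψ} h1 h2 => ⟨fun a ha b hb => by
    simp only [Pi.add_apply, h1.1 a ha b hb, h2.1 a ha b hb]; ring, fun x hx => by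
    simp only [Pi.add_apply, h1.2 x hx, h2.2 x hx, add_zero]⟩
  zero_mem' := ⟨fun _ _ _ _ => by simp, fun _ _ => rfl⟩
  smul_mem' := fun c φ h => ⟨fun a ha b hb => by simp only [Pi.smul_apply, h.1 a ha b hb, smul_add],
    fun x hx => by simp only [Pi.smul_apply, h.2 x hx, smul_zero]⟩

/-- the action on the additive characters -/
def achRep (F : Type*) [Field F] (P : Subgroup Γ) [hP : P.Normal] : Γ →* End F (ach F P) where
  toFun g := (LinearMap.funLeft F F fun x => g⁻¹ * x * g).restrict fun φ h => ⟨fun a ha b hb => by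
    simp only [LinearMap.funLeft_apply]
    rw [← h.1 _ (hP.conj_mem' a ha g) _ (hP.conj_mem' b hb g)]; congr 1; group,
    fun x hx => h.2 _ fun e => hx (by simpa [mul_assoc] using hP.conj_mem _ e g)⟩
  map_one' := by ext φ x; simp [LinearMap.funLeft_apply]
  map_mul' a b := by ext φ x; simp [LinearMap.funLeft_apply, mul_assoc]

omit [Finite Γ] in
theorem achRep_apply [P.Normal] (g : Γ) (φ : ach F P) (x : Γ) : (achRep F P g φ).1 x = φ.1 (g⁻¹ * x * g) := rfl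

/-- the kernel of an additive character -/
def aker (φ : ach F P) : Subgroup Γ where
  carrier := {x | x ∈ P ∧ φ.1 x = 0}
  mul_mem' := fun {a b} ha hb => ⟨mul_mem ha.1 hb.1, by rw [φ.2.1 a ha.1 b hb.1, ha.2, hb.2, add_zero]⟩
  one_mem' := ⟨one_mem _, by simpa using φ.2.1 1 (one_mem _) 1 (one_mem _)⟩
  inv_mem' := fun {a} ha => ⟨inv_mem ha.1, by
    have h1 := φ.2.1 a ha.1 _ (inv_mem ha.1)
    have h2 := φ.2.1 1 (one_mem _) 1 (one_mem _)
    rw [mul_inv_cancel, ha.2, zero_add] at h1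
    simpa [h1] using h2⟩

omit [Finite Γ] in
theorem ach_comm (φ : ach F P) {x g : Γ} (hx : x ∈ P) (hg : g⁻¹ * x * g ∈ P) :
    φ.1 (g⁻¹ * x * g) = φ.1 x ↔ ⁅x⁻¹, g⁻¹⁆ ∈ aker φ := by
  have e : ⁅x⁻¹, g⁻¹⁆ = x⁻¹ * (g⁻¹ * x * g) := by rw [commutatorElement_def]; group
  have := φ.2.1 x hx _ (mul_mem (inv_mem hx) hg)
  rw [mul_inv_cancel_left] at this
  rw [this, e, add_eq_left]
  exact ⟨fun h => ⟨mul_mem (inv_mem hx) hg, h⟩, fun h => h.2⟩

omit [Finite Γ] in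
theorem eq_zero_of_le {φ : ach F P} (h : P ≤ aker φ) : φ = 0 := by
  ext x
  by_cases hx : x ∈ P
  · exact (h hx).2
  · exact φ.2.2 x hx

omit [Finite Γ] in
theorem fix_iff [hP : P.Normal] {φ : ach F P} {Z : Subgroup Γ} :
    (∀ g ∈ Z, achRep F P g φ = φ) ↔ ⁅P, Z⁆ ≤ aker φ := by
  refine ⟨fun h => commutator_le.2 fun x hx g hg => ?_, fun h g hg => ?_⟩
  · have := congrArg (·.1 x⁻¹) (h _ (inv_mem hg))
    simpa using (ach_comm φ (inv_mem hx) (hP.conj_mem' _ (inv_mem hx) _)).1 this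
  · ext x
    by_cases hx : x ∈ P
    · exact (ach_comm φ hx (hP.conj_mem' _ hx _)).2 (h (commutator_mem_commutator (inv_mem hx) (inv_mem hg)))
    · rw [φ.2.2 x hx, (achRep F P g φ).2.2 x hx]

omit [Finite Γ] in
theorem der_le_aker (φ : ach F P) : ⁅P, P⁆ ≤ aker φ := commutator_le.2 fun a ha b hb => by
  have := (ach_comm φ (inv_mem ha) (g := b⁻¹) (mul_mem (mul_mem (inv_mem (inv_mem hb)) (inv_mem ha)) (inv_mem hb))).1 (by
    rw [φ.2.1 _ (mul_mem (inv_mem (inv_mem hb)) (inv_mem ha)) _ (inv_mem hb), φ.2.1 _ (inv_mem (inv_mem hb)) _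
      (inv_mem ha), add_comm, ← add_assoc, ← φ.2.1 _ (inv_mem hb) _ (inv_mem (inv_mem hb)), mul_inv_cancel,
      (one_mem (aker φ)).2, zero_add])
  simpa using this

theorem exists_ach (hp : p.Prime) [CharP F p] (h1 : ⁅P, P⁆ ≤ J) (h2 : ∀ x ∈ P, x ^ p ∈ J) (h3 : J ≤ P) {x : Γ}
    (hx : x ∈ P) (hJ : x ∉ J) : ∃ φ : ach F P, J ≤ aker φ ∧ x ∉ aker φ := by
  classical
  haveI := Fact.mk hp
  have hc : _root_.commutator P ≤ J.subgroupOf P := by
    rw [subgroupOf, ← map_le_iff_le_comap, map_subtype_commutator]; exact h1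
  obtain ⟨H, a1, a2, a3⟩ := exists_index_prime_notMem (p := p) hc (fun y => h2 y y.2) (x := ⟨x, hx⟩) hJ
  haveI := Normal.of_commutator_le P (hc.trans a1)
  let e : P ⧸ H ≃* Multiplicative (ZMod p) := mulEquivOfPrimeCardEq a3 (by simp)
  let φ : Γ → F := fun a => if h : a ∈ P then ZMod.castHom (dvd_refl p) F (e (⟨a, h⟩ : P)).toAdd else 0
  have h0 : ∀ a (ha : a ∈ P), φ a = 0 ↔ (⟨a, ha⟩ : P) ∈ H := fun a ha => by
    simp only [φ, dif_pos ha]
    rw [map_eq_zero_iff _ (ZMod.castHom_injective F), toAdd_eq_zero, map_eq_one_iff _ e.injective,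
      QuotientGroup.eq_one_iff]
  refine ⟨⟨φ, fun a ha b hb => ?_, fun a ha => dif_neg ha⟩, fun a ha => ⟨h3 ha, (h0 a (h3 ha)).2 (a1 ha)⟩,
    fun h => a2 ((h0 x hx).1 h.2)⟩
  simp only [φ, dif_pos ha, dif_pos hb, dif_pos (mul_mem ha hb)]
  rw [← map_add, ← toAdd_mul, ← map_mul]; rfl

theorem pa_map (h : PA R G) {Γ' : Type*} [Group Γ'] (f : Γ →* Γ') (hk : f.ker ≤ G) :
    Nat.card (R.map f) = Nat.card R ∧ PA (R.map f) (G.map f) := by
  have e : Nat.card (R.map f) = Nat.card R := by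
    rw [card_eq_card_inf_ker_mul_card_map f R, le_bot_iff.1 ((inf_le_inf_right R hk).trans (by
      rw [inf_comm, h.inf_eq_bot])), card_bot, one_mul]
  exact ⟨e, (map_mono h.norm).trans (le_normalizer_map f), e ▸ h.prime, e ▸ fun d => h.nd (d.trans (card_map_dvd _ f))⟩

theorem Cfg.dual (h : Cfg p (n + 1) G R P) (hM : MS.{u} n) (ha : ¬ ⁅G, R⁆ ≤ CL.Even.cmod P ⁅P, P⁆)
    (h1 : G ⊓ CL.Even.cmod P ⁅P, P⁆ ≤ Y) (h2 : Y ≤ 𝒩(J)) (h3 : ⁅P, P⁆ ≤ J) (h4 : J < P) (h5 : ∃ γ, ¬ R ≤ cj γ Y) :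
    ¬ P ⊓ nres^[n] (G ⊓ 𝒞(R)) ≤ nn R Y J := fun hE => by
  haveI := h.nP
  haveI := h.nG
  haveI := h.nC
  haveI := Fact.mk h.hp
  let F := AlgebraicClosure (ZMod p)
  let σ := achRep F P
  have hk : σ.ker = CL.Even.cmod P ⁅P, P⁆ := le_antisymm (le_cmod (norm_of_normal _) fun x hx => by
    by_contra hc
    obtain ⟨φ, e1, e2⟩ := exists_ach (F := F) h.hp le_rfl h.pw h.lt.le (commutator_le_left _ _ hx) hc
    exact e2 (fix_iff.1 (fun g hg => by rw [show achRep F P g = 1 from hg]; rfl) hx))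
    fun g hg => LinearMap.ext fun φ => fix_iff.2 ((commutator_le_of_le_cmod le_rfl).trans (der_le_aker φ)) g hg
  let f := QuotientGroup.mk' (G ⊓ σ.ker)
  have hf : Function.Surjective f := QuotientGroup.mk'_surjective _
  have kf : f.ker = G ⊓ CL.Even.cmod P ⁅P, P⁆ := by rw [QuotientGroup.ker_mk', hk]
  have cm : ∀ {Z : Subgroup Γ}, Z ≤ G → (Z.map f = ⊥ ↔ Z ≤ CL.Even.cmod P ⁅P, P⁆) := fun hZ => by
    rw [Subgroup.map_eq_bot_iff, kf, le_inf_iff, and_iff_right hZ]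
  have cG : ∀ {Z : Subgroup (Γ ⧸ (G ⊓ σ.ker))}, Z ≤ G.map f → Z.comap f ≤ G := fun hZ =>
    (comap_mono hZ).trans (comap_map_eq_self (kf.le.trans inf_le_left)).le
  obtain ⟨cR, pa⟩ := pa_map h.pa f (kf.le.trans inf_le_left)
  let U : (Γ ⧸ (G ⊓ σ.ker)) ⧸ Y.map f → Submodule F (ach F P) := fun ω =>
    { carrier := {φ | ∀ γ, QuotientGroup.mk (f γ) = ω → ∀ x ∈ J, φ.1 (γ * x * γ⁻¹) = 0}
      add_mem' := fun ha hb γ e x hx => by
        rw [Submodule.coe_add, Pi.add_apply, ha γ e x hx, hb γ e x hx, add_zero]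
      zero_mem' := fun _ _ _ _ => rfl
      smul_mem' := fun c φ ha γ e x hx => by rw [Submodule.coe_smul, Pi.smul_apply, ha γ e x hx, smul_zero] }
  have eY : ∀ a b : Γ, (QuotientGroup.mk (f a) : _ ⧸ Y.map f) = QuotientGroup.mk (f b) ↔ a⁻¹ * b ∈ Y := fun a b => by
    rw [QuotientGroup.eq, ← map_inv, ← map_mul, ← mem_comap, comap_map_eq_self (kf.le.trans h1)]
  have sm : ∀ a b : Γ, f a • (QuotientGroup.mk (f b) : _ ⧸ Y.map f) = QuotientGroup.mk (f (a * b)) := fun a b => by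
    rw [map_mul]; rfl
  have fx : ∀ γ : Γ, R.map f ≤ stabilizer _ (QuotientGroup.mk (f γ) : _ ⧸ Y.map f) ↔ R ≤ cj γ Y := fun γ => by
    rw [map_le_iff_le_comap]
    refine forall₂_congr fun c _ => ?_
    rw [mem_comap, mem_stabilizer_iff, sm, eq_comm, eY, mem_cj, mul_assoc]
  have sj : ∀ ω : _ ⧸ Y.map f, ∃ γ, QuotientGroup.mk (f γ) = ω := fun ω => by
    obtain ⟨a, rfl⟩ := QuotientGroup.mk_surjective ω
    obtain ⟨γ, rfl⟩ := hf a
    exact ⟨γ, rfl⟩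
  obtain ⟨c1, c2⟩ := hM _ F p _ _ (quoRep σ G) (G.map f) (R.map f) U
    { pa := pa
      nG := Normal.map inferInstance f hf
      top := by rw [← Subgroup.map_sup, h.top, map_top_of_surjective f hf]
      sol := sol_map f h.sol
      hq := h.hp
      hr := fun e => by
        rw [cR, CharP.cast_eq_zero_iff F p, Nat.prime_dvd_prime_iff_eq h.hp h.pa.prime] at e
        exact h.ne (eq_bot_of_isPGroup_of_coprime h.pP (e ▸ h.paP.cop.symm))
      nofix := fun Z hZ hn v hv h0 => by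
        by_contra hc
        rw [← map_comap_eq_self_of_surjective hf Z, cm (cG hZ)] at hc
        exact h0 (eq_zero_of_le ((h.comm_eq inferInstance hc).ge.trans (fix_iff.1 fun g hg =>
          (hv (f g) hg).trans (one_smul _ _))))
      ht := by rw [← map_ht h.hp, Ne, cm ht_le]; exact h.not_le
      min := fun G₀ h1 h2 h3 => by
        rw [← map_comap_eq_self_of_surjective hf G₀] at h3 ⊢
        rw [← map_ht h.hp, Ne, cm (ht_le.trans (cG h1))] at h3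
        rw [h.gmin _ (cG h1) ((le_comap_map f R).trans ((comap_mono h2).trans (le_normalizer_comap f)))
          ((le_inf h.le h.le_cm).trans (kf.ge.trans (ker_le_comap f _))) fun e => h3 (e.trans h.cent_le)]
      cm := by rw [← Subgroup.map_commutator, Ne, cm h.pa.comm_le]; exact ha
      hU := fun g ω φ hφ γ e x hx => by
        obtain ⟨g, rfl⟩ := hf g
        have := hφ (g⁻¹ * γ) (by rw [← sm, e, map_inv, inv_smul_smul]) x hx
        rw [← this]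
        exact (achRep_apply g φ _).trans (by congr 1; group)
      ne := by
        obtain ⟨x, hx, hx'⟩ := SetLike.not_le_iff_exists.1 h4.2
        obtain ⟨φ, e1, e2⟩ := exists_ach (F := F) h.hp h3 (fun y hy => h3 (h.pw y hy)) h4.le hx hx'
        exact ⟨QuotientGroup.mk (f 1), (Submodule.ne_bot_iff _).2 ⟨φ, fun γ e y hy => (e1 (conj_mem (h2 (by
          simpa using (eY _ _).1 e.symm)) hy)).2, fun e => e2 ⟨hx, by rw [e]; rfl⟩⟩⟩
      mov := fun ω => by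
        obtain ⟨γ, rfl⟩ := sj ω
        obtain ⟨δ, hδ⟩ := h5
        exact ⟨f (δ * γ⁻¹), by rwa [sm, inv_mul_cancel_right, fx]⟩ }
  have hC : nres^[n] (G ⊓ 𝒞(R)) ≤ 𝒞(R) := (nres_iter_le _ _).trans inf_le_right
  have t1 : ∀ ψ ∈ tr (quoRep σ G) (R.map f) U, (∀ c ∈ R, σ c ψ = ψ) ∧ P ⊓ nres^[n] (G ⊓ 𝒞(R)) ≤ aker ψ := fun ψ hψ => by
    refine ⟨fun c hc => (tr_le (D := fixv _ (R.map f)) (fun ω _ u _ c hc => (rho_pi hc u).trans (one_smul _ _).symm)
      hψ (f c) (mem_map_of_mem f hc)).trans (one_smul _ _), fun x hx => ⟨hx.1, ?_⟩⟩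
    refine tr_le (D := LinearMap.ker (LinearMap.proj x ∘ₗ (ach F P).subtype)) (fun ω hω φ hφ => pi_mem ?_) hψ
    rintro _ ⟨c, hc, rfl⟩
    obtain ⟨γ, rfl⟩ := sj ω
    have := hφ γ rfl _ (mem_nn.1 (hE hx) γ fun e => hω ((fx γ).2 e))
    exact (achRep_apply c φ x).trans (Eq.trans (by rw [mul_assoc, ← hC hx.2 c hc]; congr 1; group) this)
  have t2 : ∀ ψ : ach F P, (∀ c ∈ R, σ c ψ = ψ) → P ⊓ 𝒞(R) ≤ aker ψ → ψ = 0 := fun ψ e1 e2 =>
    eq_zero_of_le (h.paP.sup.ge.trans (sup_le (fix_iff.1 e1) e2))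
  rcases n with _ | n
  · exact c1 (eq_bot_iff.2 fun ψ hψ => t2 ψ (t1 ψ hψ).1
      ((le_inf inf_le_left (inf_le_inf_right _ h.le)).trans (t1 ψ hψ).2))
  refine c2 n rfl ?_
  rw [map_inf_cent_eq f h.pa.norm h.pa.cop h.pa.solv, ← map_ht h.hp]
  rintro _ ⟨c, hc, rfl⟩ ψ hψ
  have hcR : c ∈ 𝒞(R) := (ht_le hc).2
  refine sub_eq_zero.1 (t2 (σ c ψ - ψ) (fun a ha => ?_) fun x hx => ⟨hx.1, sub_eq_zero.2 ?_⟩)
  · rw [map_sub, ← rho_mul_apply, hcR a ha, rho_mul_apply, (t1 ψ hψ).1 a ha]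
  · have hm := commutator_mem_commutator (inv_mem hx) (inv_mem hc)
    exact (ach_comm ψ hx.1 (h.nP.conj_mem' _ hx.1 _)).2 ((t1 ψ hψ).2 ⟨commutator_le_left P _
      (commutator_mono inf_le_left le_rfl hm), comm_le_nres h.hp (h.pP.to_le inf_le_left) (inf_le_inf_right _ h.le)
        (le_norm_inf (norm_of_normal _) (le_norm_of_le inf_le_right)) hm⟩)

end CL.Tur
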