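/-
Turull's bound on the Fitting height, part 5: the case where the operator centralizes the top of the tower.
-/
import Cfsg.Agent.Tur.Dual
import Cfsg.Agent.Fgs.TowerI
import Cfsg.Agent.Perm.Module

set_option autoImplicit false
set_option linter.all false

namespace CL.Tur

open Module Subgroup Cfsg CL.Grp CL.Even CL.HHS CL.Fgs CL.Fgs.HH MulAction
open scoped commutatorElement

universe u

variable {F : Type*} [Field F] {V : Type*} [AddCommGroup V] [Module F V] {Γ : Type u} [Group Γ] [Finite Γ]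
  {Ω : Type*} [MulAction Γ Ω] {ρ : Γ →* End F V} {G R P L A T Z : Subgroup Γ} {U : Ω → Submodule F V} {μ : Γ → F}
  {D W : Submodule F V} {p q n : ℕ}

/-- the vectors whose translates have traces in `D` -/
noncomputable def wst (ρ : Γ →* End F V) (R L : Subgroup Γ) (D : Submodule F V) : Submodule F V :=
  ⨅ y ∈ L, D.comap (pi ρ R ∘ₗ ρ y)

theorem mem_wst {v : V} : v ∈ wst ρ R L D ↔ ∀ y ∈ L, pi ρ R (ρ y v) ∈ D := by simp [wst]

theorem pi_mem_of_wst {v : V} (h : v ∈ wst ρ R L D) : pi ρ R v ∈ D := by simpa using mem_wst.1 h 1 (one_mem _)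

theorem le_stabv_wst : L ≤ stabv ρ (wst ρ R L D) := fun g hg v hv => mem_wst.2 fun y hy => by
  rw [← rho_mul_apply]; exact mem_wst.1 hv _ (mul_mem hy hg)

theorem le_stabv_wst' (h : R ≤ 𝒩(L)) : R ≤ stabv ρ (wst ρ R L D) := fun c hc v hv => mem_wst.2 fun y hy => by
  rw [← pi_rho (inv_mem hc), ← rho_mul_apply, ← rho_mul_apply]; exact mem_wst.1 hv _ (conj_mem' (h hc) hy)

theorem mem_stabv_wst {t : Γ} (h1 : t ∈ 𝒞(R)) (h2 : t ∈ 𝒩(L)) (h3 : t ∈ stabv ρ D) : t ∈ stabv ρ (wst ρ R L D) :=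
  fun v hv => mem_wst.2 fun y hy => by
    rw [← rho_mul_apply, show y * t = t * (t⁻¹ * y * t) by group, rho_mul_apply, ← rho_pi_comm h1]
    exact h3 _ (mem_wst.1 hv _ (conj_mem' h2 hy))

theorem stabv_le_norm : stabv ρ W ≤ 𝒩(wfix ρ W) := fun g hg => mem_normalizer_fintype fun y hy w hw => by
  rw [rho_mul_apply, rho_mul_apply, hy _ (inv_mem hg w hw), ← rho_mul_apply, mul_inv_cancel, map_one]; rfl

theorem mem_fixv {v : V} : v ∈ fixv ρ L ↔ ∀ g ∈ L, ρ g v = v := by simp [mem_wt]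

theorem cent_le_stabv (hU : ∀ g ω u, u ∈ U ω → ρ g u ∈ U (g • ω)) : 𝒞(R) ≤ stabv ρ (tr ρ R U) := fun c hc =>
  tr_le (D := (tr ρ R U).comap (ρ c)) fun ω hω u hu => by
    rw [Submodule.mem_comap, rho_pi_comm hc]
    exact pi_mem_tr (fun e => hω (by simpa using fx_smul e (inv_mem hc))) (hU c ω u hu)

theorem fix_of_pi (h : CW ρ P A μ) (hc : (Nat.card P : F) ≠ 0) (hr : (Nat.card R).Prime) (hR : R ≤ 𝒩(P))
    (hn : ¬ R ≤ wstab A μ) {t : Γ} (h1 : t ∈ 𝒩(P)) (h2 : t ∈ 𝒞(R)) (h3 : (orderOf t).Coprime (Nat.card R)) {w : V}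
    (hw : w ∈ wt ρ A μ) (e : ρ t (pi ρ R w) = pi ρ R w) : ρ t w = w := by
  haveI := Fintype.ofFinite R
  obtain ⟨π, p1, p2⟩ := h.exists_proj hc
  have key : ∀ {t : Γ}, t ∈ 𝒩(P) → t ∈ 𝒞(R) → (orderOf t).Coprime (Nat.card R) → π (ρ t (pi ρ R w)) = π (ρ t w) :=
    fun {t} h1 h2 h3 => by
      rw [pi_apply, map_sum, map_sum, Finset.sum_eq_single 1 (fun c _ hc => ?_) (by simp)]
      · simp
      rw [← rho_mul_apply]
      exact p2 _ (mul_mem h1 (hR c.2)) (fun e => hn (le_of_mem_prime hr c.2 (fun e => hc (Subtype.ext e))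
        (mem_of_mul_mem (h2 c c.2).symm (h3.coprime_dvd_right (Subgroup.orderOf_dvd_natCard _ c.2)) e).2)) w hw
  have k1 := key (one_mem _) (one_mem _) (by simp)
  have k2 := key h1 h2 h3
  rw [map_one, End.one_apply, End.one_apply, p1 w hw] at k1
  rw [e, k1] at k2
  by_cases ht : t ∈ wstab A μ
  · rw [p1 _ (wt_inv ht hw)] at k2; exact k2.symm
  · rw [p2 t h1 ht w hw] at k2; rw [k2, map_zero]

namespace MH

variable (H : MH q n ρ G R U)
include H

theorem bot_of (hZ : Z ≤ G) (hn : Z.Normal) (hW : W ≠ ⊥) (h : Z ≤ wfix ρ W) : Z = ⊥ := by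
  obtain ⟨w, hw, h0⟩ := (Submodule.ne_bot_iff _).1 hW
  exact H.nofix Z hZ hn w (mem_fixv.2 fun g hg => h hg w hw) h0

theorem bot_of_wker (hZ : Z ≤ G) (hn : Z.Normal) (hW : wt ρ A μ ≠ ⊥) (h : Z ≤ wker hW) : Z = ⊥ :=
  H.bot_of hZ hn hW fun g hg w hw => by rw [hw g (h hg).1, (h hg).2, one_smul]

theorem exists_nz : ∃ ω, ¬ R ≤ stabilizer Γ ω ∧ ∃ u ∈ U ω, u ≠ 0 := by
  obtain ⟨ω, hω⟩ := H.ne
  obtain ⟨g, hg⟩ := H.mov ω
  obtain ⟨u, hu, h0⟩ := (Submodule.ne_bot_iff _).1 hω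
  exact ⟨_, hg, _, H.hU g ω u hu, fun e => h0 (rho_inj e)⟩

theorem wst_ne (h : ∀ ω, ¬ R ≤ stabilizer Γ ω → ∀ y ∈ L, ∀ u ∈ U ω, pi ρ R (ρ y u) ∈ D) : wst ρ R L D ≠ ⊥ := by
  obtain ⟨ω, hω, u, hu, h0⟩ := H.exists_nz
  exact (Submodule.ne_bot_iff _).2 ⟨u, mem_wst.2 fun y hy => h ω hω y hy u hu, h0⟩

theorem wst_ne_of (hL : L ≤ G) (hn : R ≤ 𝒩(L)) (h : tr ρ R U = ⊥) : wst ρ R L ⊥ ≠ ⊥ :=
  H.wst_ne fun ω hω y hy u hu => lemH H.hU (H.pa.of_le hL hn) (CL.Odd.sol_of_le H.sol hL) H.hr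
    (fun _ _ d hd => by rw [(Submodule.mem_bot F).1 hd, map_zero]; exact zero_mem _)
    (fun _ _ d hd => by rw [(Submodule.mem_bot F).1 hd, map_zero]; exact zero_mem _)
    (fun ω hω u hu => h ▸ pi_mem_tr hω hu) hω hy hu

theorem cfg [CharP F q] : ∃ p P, p ≠ q ∧ Cfg p n G R P := by
  haveI := H.nG
  haveI := Fact.mk H.hq
  have h0 : pCoreOf q G = ⊥ := by
    obtain ⟨ω, -, u, -, h0⟩ := H.exists_nz
    obtain ⟨v, -, h1, h2⟩ := CL.Perm.exists_ne_zero_fixed_of_isPGroup (core_isP (p := q) G)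
      (ρ.comp (pCoreOf q G).subtype) ⊤ (fun _ _ _ => trivial) fun e => h0 ((Submodule.mem_bot F).1 (e ▸ trivial))
    exact H.nofix _ (core_le G) inferInstance v (mem_fixv.2 fun g hg => h2 ⟨g, hg⟩) h1
  obtain ⟨p, P, h⟩ := exists_cfg H.pa H.top H.sol (n := n) (fun e => H.ht (le_bot_iff.1 (ht_le_nres.trans e.le)))
    fun p hp h1 G₀ h2 h3 P _ h5 h6 h7 => H.min G₀ h2 h3 fun e => h7 (le_bot_iff.1
      ((le_res_of_ne hp H.hq (fun e => h1 (e ▸ h0)) h5 h6).trans e.le))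
  refine ⟨p, P, fun e => h.ne (le_bot_iff.1 (h0 ▸ le_core h.le (e ▸ h.pP) ?_)), h⟩
  haveI := h.nP
  exact norm_of_normal _

end MH

namespace Cfg

variable (h : Cfg p n G R P) (hb : ⁅G, R⁆ ≤ CL.Even.cmod P ⁅P, P⁆)
include h hb

theorem base_eq : (G ⊓ 𝒞(R)) ⊔ P = G :=
  h.eq_of_le (sup_le inf_le_left h.le) (le_norm_sup (le_norm_inf h.pa.norm (le_norm_cent le_normalizer)) h.paP.norm)
    le_sup_right (h.pa.sup.ge.trans (sup_le (hb.trans le_sup_right) (le_sup_of_le_left le_sup_left)))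

theorem base_le : ⁅G, R⁆ ≤ ⁅P, R⁆ :=
  haveI := h.nP
  comm_le_of_le_sup ((h.base_eq hb).ge.trans (sup_comm _ _).le) inf_le_right (norm_of_normal _)

theorem base_normal (h1 : G ⊓ 𝒞(R) ≤ 𝒩(Z)) (h2 : P ≤ 𝒩(Z)) (h3 : R ≤ 𝒩(Z)) : Z.Normal :=
  normal_iff_top_le.2 (h.top ▸ sup_le (h.base_eq hb ▸ sup_le h1 h2) h3)

theorem base_comm (cm : ⁅G, R⁆ ≠ ⊥) : ⁅P, R⁆ = P := by
  haveI := h.nP
  haveI := Fact.mk h.hp
  by_contra hc
  have h1 := h.min _ (lt_of_le_of_ne h.paP.comm_le hc) (h.base_normal hb (le_norm_commutator (norm_of_normal _)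
    (inf_le_right.trans (cent_le_norm R))) (left_norm P R) (right_norm P R))
  have h2 : P ⊓ 𝒞(R) = P := by
    by_contra e
    exact (CL.Odd.sup_der_lt_of_nil h.pP.isNilpotent (lt_of_le_of_ne inf_le_left e)).2
      (h.paP.sup.ge.trans (sup_le (h1.trans le_sup_right) le_sup_left))
  exact cm (le_bot_iff.1 ((h.base_le hb).trans (comm_bot.2 (h2.ge.trans inf_le_right)).le))

end Cfg

variable [IsAlgClosed F] [FiniteDimensional F V] (H : MH q n ρ G R U) (h : Cfg p n G R P) (hp : (p : F) ≠ 0)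
  (hb : ⁅G, R⁆ ≤ CL.Even.cmod P ⁅P, P⁆)
include H h hp hb

theorem base_core {s : ℕ} (hs : s.Prime) (pT : IsPGroup s T) (hT : T ≤ G ⊓ 𝒞(R)) (hPT : ⁅P, T⁆ = P) (hW : W ≠ ⊥)
    (h1 : P ≤ stabv ρ W) (h2 : R ≤ stabv ρ W) (h3 : T ≤ stabv ρ W) (fix : ∀ w ∈ W, pi ρ R w ∈ fixv ρ T) :
    ⁅P, P⁆ ≤ 𝒞(R) ∧ ∃ A μ, ¬ P ≤ A ∧ (T ≤ 𝒞(⁅P, P⁆) → Bs ρ R P A T μ (wt ρ A μ ⊓ W)) := by
  haveI := h.nP
  haveI := Fact.mk h.hp
  haveI := Fact.mk hs
  have hPR := h.base_comm hb H.cm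
  have h0 := inf_cent_le_der_of_comm_eq h.paP.norm h.paP.cop h.paP.solv hPR
  have hc := natCast_card_ne_zero h.hp h.pP hp
  have c2 : (Nat.card R).Coprime (Nat.card T) :=
    h.pa.cop.coprime_dvd_right (card_dvd_of_le (hT.trans inf_le_left))
  obtain ⟨A, μ, cw, hne⟩ := exists_cw ρ h.cl2 hW h1
  have hi : ∀ {X : Subgroup Γ}, X ≤ wstab A μ → X ≤ stabv ρ W → X ≤ stabv ρ (wt ρ A μ ⊓ W) :=
    fun e1 e2 g hg w hw => ⟨wt_inv (e1 hg) hw.1, e2 hg w hw.2⟩
  have hR : R ≤ wstab A μ := by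
    by_contra hn
    exact h.ne (H.bot_of h.le h.nP hne (hPT.ge.trans (comm_le_wfix (hi cw.le_wstab h1) fun t ht w hw =>
      fix_of_pi cw hc h.pa.prime h.paP.norm hn (norm_of_normal T ht) (hT ht).2
        (c2.symm.coprime_dvd_left (Subgroup.orderOf_dvd_natCard _ ht)) hw.1 (mem_fixv.1 (fix w hw.2) t ht))))
  have hle : ⁅⁅P, P⁆, R⁆ ≤ ⁅P, P⁆ := commutator_le_left _ _
  refine ⟨comm_bot.1 (H.bot_of_wker (hle.trans (h.lt.le.trans h.le)) (h.base_normal hb (le_norm_commutator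
    (norm_of_normal _) (inf_le_right.trans (cent_le_norm R))) ((le_cent_comm.1 (hle.trans h.cl2)).trans
      (cent_le_norm _)) (right_norm _ _)) cw.ne_bot (commutator_le_wker _ cw.der_le hR)), A, μ, fun e =>
    h.ne (H.bot_of_wker h.le h.nP cw.ne_bot (hPR.ge.trans (commutator_le_wker _ e hR))), fun e => ?_⟩
  haveI := Fact.mk h.pa.prime
  have hTw : T ≤ wstab A μ := fun t ht => cw.mem_wstab_of_cent hR h.paP.cop (isSolvable_of_isPGroup
    (isPGroup_of_card_prime h.pa.prime)) h0 (norm_of_normal T ht) (e ht) (hT ht).2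
  exact ⟨cw, hc, h.paP, hR, fun t ht e => HH.mem_of_comm_mem h.paP.norm h.paP.cop h.paP.solv cw.le
    (fun g hg => (cw.le_wstab hg).1) (fun g hg => (hR hg).1) (h0.trans cw.der_le) ht e, hTw, norm_of_normal _,
    hT.trans inf_le_right, IsPGroup.coprime_card_of_ne s p (h.ne_of_comm pT hPT) T P pT h.pP, c2,
    isSolvable_of_isPGroup pT, inf_le_left, hne, hi cw.le_wstab h1, hi hR h2, hi hTw h3,
    fun t ht w hw => mem_fixv.1 (fix w hw.2) t ht⟩

theorem base_nz : tr ρ R U ≠ ⊥ := fun e => by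
  haveI := h.nP
  haveI := Fact.mk h.hp
  obtain ⟨s, T, hs, pT, h1, h2, h3, h4⟩ := h.exT
  haveI := Fact.mk hs
  have hT : T ≤ G ⊓ 𝒞(R) := le_inf (h1.trans ht_le) (comm_le_bot.1 ((le_inf (commutator_le_of_le_norm h2)
    ((commutator_mono (h1.trans ht_le) le_rfl).trans ((h.base_le hb).trans h.paP.comm_le))).trans
      (inf_eq_bot_of_isPGroup pT h.pP (h.ne_of_comm pT h3)).le))
  obtain ⟨-, A, μ, a1, a2⟩ := base_core H h hp hb hs pT hT h3 (H.wst_ne_of h.le h.paP.norm e) le_stabv_wst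
    (le_stabv_wst' h.paP.norm) (fun t ht => mem_stabv_wst (hT ht).2 (norm_of_normal T ht) fun d hd => by
      rw [(Submodule.mem_bot F).1 hd, map_zero]; exact zero_mem _) fun w hw => bot_le (a := fixv ρ T) (pi_mem_of_wst hw)
  obtain ⟨τ, hτ, hτ'⟩ := SetLike.not_le_iff_exists.1 fun e => a1 (h3.ge.trans (commutator_le_of_le_cmod e))
  obtain ⟨w, hw, hw'⟩ := ((a2 h4).invol hs pT hτ hτ').2.2
  exact hw' ((Submodule.mem_bot F).1 (pi_mem_of_wst hw.2))

theorem base_two (hpq : p ≠ q) {j : ℕ} (hj : j + 1 = n) : ¬ ht q j (G ⊓ 𝒞(R)) ≤ wfix ρ (tr ρ R U) := fun hK => by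
  subst hj
  haveI := h.nP
  haveI := h.nG
  haveI := h.nC
  haveI := Fact.mk h.hp
  let f := QuotientGroup.mk' (CL.Even.cmod P ⁅P, P⁆)
  have hf : Function.Surjective f := QuotientGroup.mk'_surjective _
  have kf : f.ker = CL.Even.cmod P ⁅P, P⁆ := QuotientGroup.ker_mk' _
  haveI : (G.map f).Normal := Normal.map inferInstance f hf
  set N := nres^[j] (G ⊓ 𝒞(R)) with hN
  have hNC : N ≤ G ⊓ 𝒞(R) := nres_iter_le _ _
  have e1 : N.map f = nres^[j] (G.map f) := by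
    rw [map_nres_iter, ← congrArg (map f) (h.base_eq hb), Subgroup.map_sup,
      (Subgroup.map_eq_bot_iff P).2 (h.le_cm.trans kf.ge), sup_bot_eq]
  obtain ⟨s, hs, hs'⟩ := exists_not_cent (X := nres^[j] (G.map f)) (CL.Odd.sol_of_le (sol_map f h.sol)
    (nres_iter_le _ _)) fun e => h.not_le (by
      rw [← kf, ← Subgroup.map_eq_bot_iff, map_ht h.hp, ht, Function.iterate_succ_apply', e]
      exact le_bot_iff.1 (res_le _))
  haveI := Fact.mk hs
  haveI : (pResidualOf s (nres^[j] (G.map f))).Normal := ht_normal (p := s) (n := j)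
  set T' := ⁅pCoreOf s (nres^[j] (G.map f)), pResidualOf s (nres^[j] (G.map f))⁆ with hT'
  have pT' : IsPGroup s T' := (core_isP _).to_le (commutator_le_left _ _)
  have t1 : T' ≤ (nres N).map f := by
    rw [map_nres, e1]
    exact comm_le_nres (n := 0) hs (core_isP _) (core_le _) (norm_of_normal _)
  have t2 : T' ≤ ⁅T', N.map f⁆ := (commutator_res_res (core_isP _) (norm_of_normal _)).ge.trans
    (commutator_mono le_rfl ((res_le _).trans e1.ge))
  obtain ⟨T, hT⟩ := exists_isSylowIn (p := s) (nres N ⊓ T'.comap f)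
  have t3 : T.map f = T' := by
    have := syl_map f hT
    have e : (nres N ⊓ T'.comap f).map f = T' := le_antisymm (map_le_iff_le_comap.2 inf_le_right) fun y hy => by
      obtain ⟨x, hx, rfl⟩ := t1 hy
      exact ⟨x, ⟨hx, hy⟩, rfl⟩
    rw [e] at this
    exact (this.eq_of_le pT' this.le le_rfl).symm
  have t4 : T'.comap f = T ⊔ CL.Even.cmod P ⁅P, P⁆ := by rw [← t3, comap_map_eq, kf]
  have hTN : T ≤ N := hT.le.trans (inf_le_left.trans (nres_le N))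
  have hTK : T ≤ wfix ρ (tr ρ R U) := hT.le.trans (inf_le_left.trans ((nres_le_res H.hq).trans hK))
  have hPT : ⁅P, T⁆ = P := h.comm_eq (t4 ▸ inferInstance) fun e => hs' (commutator_eq_bot_iff'.1 (by
    rw [← hT', ← t3, Subgroup.map_eq_bot_iff, kf]; exact e))
  have hTC := hTN.trans hNC
  have hPR := h.base_comm hb H.cm
  obtain ⟨a0, A, μ, a1, a2⟩ := base_core H h hp hb hs hT.isPGroup hTC hPT (W := wst ρ R P (fixv ρ T))
    (H.wst_ne fun ω hω y hy u hu => lemH2 H.hU h.paP H.hr (h.pa.of_le (hTC.trans inf_le_left)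
      ((le_cent_comm.1 (hTC.trans inf_le_right)).trans (cent_le_norm _))) (hTC.trans inf_le_right) (norm_of_normal _)
      hPT.ge hPR.ge (inf_cent_le_der_of_comm_eq h.paP.norm h.paP.cop h.paP.solv hPR) h.pP.isNilpotent
      (fun ω hω u hu => mem_fixv.2 fun t ht => hTK ht _ (pi_mem_tr hω hu)) hω hy hu)
    le_stabv_wst (le_stabv_wst' h.paP.norm) (fun t ht => mem_stabv_wst (hTC ht).2 (norm_of_normal T ht) fun d hd => by
      rw [mem_fixv.1 hd t ht]; exact hd) fun w hw => pi_mem_of_wst hw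
  have z1 : ⁅P, P⁆ ⊓ wfix ρ (tr ρ R U) = ⊥ := H.bot_of (inf_le_left.trans (h.lt.le.trans h.le)) (h.base_normal hb
    (le_norm_inf (norm_of_normal _) (inf_le_right.trans ((cent_le_stabv H.hU).trans stabv_le_norm)))
    ((le_cent_comm.1 (inf_le_left.trans h.cl2)).trans (cent_le_norm _))
    ((le_cent_comm.1 (inf_le_left.trans a0)).trans (cent_le_norm _))) (base_nz H h hp hb) inf_le_right
  have z2 : N ≤ 𝒞(⁅P, P⁆) := commutator_eq_bot_iff'.1 (le_bot_iff.1 (z1 ▸ le_inf (commutator_le_left _ _)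
    ((le_res_of_ne h.hp H.hq hpq (h.pP.to_le ((commutator_le_left _ _).trans h.lt.le)) (commutator_le_of_le_norm'
      ((le_inf (h.lt.le.trans h.le) a0).trans (le_normalizer.trans (norm_le_norm_nres_iter j _))))).trans hK)))
  have B := a2 (hTN.trans z2)
  have hM : CL.Even.cmod P ⁅P, P⁆ ≤ CL.Even.cmod P A := fun g hg => ⟨mem_normalizer_fintype fun m hm => by
    have := mul_mem (inv_mem (B.cw.der_le (hg.2 m (B.cw.le hm)))) hm
    rwa [show ⁅m, g⁆⁻¹ * m = g * m * g⁻¹ by rw [commutatorElement_def]; group] at this,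
    fun v hv => B.cw.der_le (hg.2 v hv)⟩
  have hNM : N ≤ 𝒩(CL.Even.cmod P A) := le_norm_cmod (norm_of_normal _) fun g hg => B.cw.mem_normalizer
    (norm_of_normal N hg) fun z hz => by rw [mul_assoc, z2 hg z hz, inv_mul_cancel_left]
  have kl : ∀ x ∈ T'.comap f, ∀ y ∈ T'.comap f, x ∉ CL.Even.cmod P A → y ∉ CL.Even.cmod P A →
      x * y ∈ CL.Even.cmod P A := fun x hx y hy h1 h2 => by
    rw [t4] at hx hy
    obtain ⟨a, ha, k, hk, rfl⟩ := (mem_sup_nr (norm_of_normal _)).1 hx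
    obtain ⟨b, hb, l, hl, rfl⟩ := (mem_sup_nr (norm_of_normal _)).1 hy
    have := mul_mem (mul_mem (B.klein hs hT.isPGroup ha hb (fun e => h1 (mul_mem e (hM hk))) fun e =>
      h2 (mul_mem e (hM hl))) (hM (h.nC.conj_mem' k hk b))) (hM hl)
    convert this using 1; group
  have k2 : ⁅T'.comap f, N⁆ ≤ CL.Even.cmod P A := commutator_le.2 fun x hx g hg => by
    rw [show ⁅x, g⁆ = x * (g * x⁻¹ * g⁻¹) by rw [commutatorElement_def]; group]
    by_cases e : x ∈ CL.Even.cmod P A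
    · exact mul_mem e (conj_mem (hNM hg) (inv_mem e))
    · exact kl x hx _ (conj_mem (norm_of_normal N hg) (inv_mem hx)) e fun e1 => e (by
        simpa [mul_assoc] using inv_mem (conj_mem' (hNM hg) e1))
  have k3 := map_mono (f := f) k2
  rw [Subgroup.map_commutator, map_comap_eq_self_of_surjective hf] at k3
  have k4 := comap_mono (f := f) (t2.trans k3)
  rw [comap_map_eq_self (kf.le.trans hM), t4] at k4
  exact a1 (hPT.ge.trans (commutator_le_of_le_cmod (le_sup_left.trans k4)))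

end CL.Tur
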